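import Groth.Agent.AdicRingLib.TFT
import Groth.Agent.AdicRingLib.TruncFP
import Groth.Agent.AdicRingLib.PolyAR

/-!
# Algebra for coherent modules on formal spectra over Raynaud base rings
-/

set_option autoImplicit false
set_option maxHeartbeats 100000
universe u

namespace Groth.Agent.FComplTF

theorem isAdicComplete_of_equiv {A : Type u} [CommRing A] {I : Ideal A} {M N : Type u} [AddCommGroup M]
    [Module A M] [AddCommGroup N] [Module A N] (e : M ≃ₗ[A] N) [IsAdicComplete I N] : IsAdicComplete I M := by
  have key : ∀ {P Q : Type u} [AddCommGroup P] [Module A P] [AddCommGroup Q] [Module A Q] (f : P →ₗ[A] Q) (n : ℕ)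
      (x : P), x ∈ I ^ n • (⊤ : Submodule A P) → f x ∈ I ^ n • (⊤ : Submodule A Q) := fun f n x hx =>
    Submodule.smul_induction_on hx
      (fun a ha y _ => by rw [map_smul]; exact Submodule.smul_mem_smul ha trivial)
      fun y z hy hz => by rw [map_add]; exact add_mem hy hz
  refine { toIsHausdorff := ⟨fun x hx => ?_⟩, toIsPrecomplete := ⟨fun F hF => ?_⟩ }
  · refine e.map_eq_zero_iff.mp (IsHausdorff.haus (inferInstance : IsHausdorff I N) _ fun n => ?_)
    exact SModEq.zero.mpr (key e.toLinearMap n x (SModEq.zero.mp (hx n)))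
  · obtain ⟨L, hL⟩ := IsPrecomplete.prec (inferInstance : IsPrecomplete I N) (f := fun n => e (F n))
      fun {m n} h => SModEq.sub_mem.mpr (by
        rw [← map_sub]; exact key e.toLinearMap m _ (SModEq.sub_mem.mp (hF h)))
    refine ⟨e.symm L, fun n => SModEq.sub_mem.mpr ?_⟩
    simpa [map_sub] using key e.symm.toLinearMap n _ (SModEq.sub_mem.mp (hL n))

section Limit

variable {S : Type u} [CommRing S] {J : Ideal S} {O : Type u} [CommRing O] [Algebra S O]
  {L : ℕ → Type u} [∀ n, CommRing (L n)] (pr : ∀ n, O →+* L n) (tr : ∀ n, L (n + 1) →+* L n)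

/-- A limit of the quotients `S / J ^ (n + 1)` is the completion of `S`. -/
theorem exists_equiv_completion (hJ : J.FG) (hcompat : ∀ n x, tr n (pr (n + 1) x) = pr n x)
    (hext : ∀ x y : O, (∀ n, pr n x = pr n y) → x = y)
    (hlift : ∀ b : ∀ n, L n, (∀ n, tr n (b (n + 1)) = b n) → ∃ x : O, ∀ n, pr n x = b n)
    (hs : ∀ n, Function.Surjective ((pr n).comp (algebraMap S O)))
    (hk : ∀ n, RingHom.ker ((pr n).comp (algebraMap S O)) = J ^ (n + 1)) :
    IsAdicComplete J O ∧ (∀ n (x : O), pr n x = 0 ↔ x ∈ (J ^ (n + 1)).map (algebraMap S O)) ∧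
      Nonempty (AdicCompletion J S ≃ₗ[S] O) := by
  let pl : ∀ n, S →+* L n := fun n => (pr n).comp (algebraMap S O)
  have hpl : ∀ n s, tr n (pl (n + 1) s) = pl n s := fun n s => hcompat n _
  have key : ∀ x : AdicCompletion J S, ∃ y : O, ∀ n e, x.val (n + 1) = Submodule.Quotient.mk e → pr n y = pl n e := by
    intro x
    obtain ⟨b, rfl⟩ := AdicCompletion.mk_surjective J S x
    have heq : ∀ n (c c' : S), c - c' ∈ J ^ (n + 1) → pl n c = pl n c' := fun n c c' hc => by
      rw [← sub_eq_zero, ← map_sub]
      exact RingHom.mem_ker.1 ((hk n).symm ▸ hc)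
    obtain ⟨y, hy⟩ := hlift (fun n => pl n (b (n + 1))) fun n => by
      rw [hpl]
      refine heq n _ _ ?_
      have := SModEq.sub_mem.1 (b.property (Nat.le_add_right (n + 1) 1)).symm
      rwa [smul_eq_mul, Ideal.mul_top] at this
    refine ⟨y, fun n e he => (hy n).trans (heq n _ _ ?_)⟩
    have := (Submodule.Quotient.eq _).1 he
    rwa [smul_eq_mul, Ideal.mul_top] at this
  choose F hF using key
  have hadd : ∀ x y, F (x + y) = F x + F y := fun x y => hext _ _ fun n => by
    obtain ⟨a, ha⟩ := Submodule.Quotient.mk_surjective _ (x.val (n + 1))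
    obtain ⟨b, hb⟩ := Submodule.Quotient.mk_surjective _ (y.val (n + 1))
    rw [map_add, hF x n a ha.symm, hF y n b hb.symm, ← map_add]
    exact hF _ n (a + b) (by rw [Submodule.Quotient.mk_add, ha, hb]; rfl)
  have hsmul : ∀ (s : S) x, F (s • x) = s • F x := fun s x => hext _ _ fun n => by
    obtain ⟨a, ha⟩ := Submodule.Quotient.mk_surjective _ (x.val (n + 1))
    rw [hF _ n (s • a) (by rw [Submodule.Quotient.mk_smul, ha]; rfl), Algebra.smul_def (A := O), map_mul,
      hF x n a ha.symm, smul_eq_mul, map_mul]
    rfl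
  let f : AdicCompletion J S →ₗ[S] O := { toFun := F, map_add' := hadd, map_smul' := hsmul }
  have hker : ∀ n x, pr n (f x) = 0 ↔ x.val (n + 1) = 0 := fun n x => by
    obtain ⟨a, ha⟩ := Submodule.Quotient.mk_surjective _ (x.val (n + 1))
    show pr n (F x) = 0 ↔ _
    rw [hF x n a ha.symm, ← ha, Submodule.Quotient.mk_eq_zero, smul_eq_mul, Ideal.mul_top, ← hk n,
      RingHom.mem_ker]
  have hbij : Function.Bijective f := by
    refine ⟨(injective_iff_map_eq_zero f).2 fun x hx => AdicCompletion.ext fun n => ?_, fun y => ?_⟩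
    · cases n with
      | zero =>
        haveI : Subsingleton (S ⧸ (J ^ 0 • ⊤ : Submodule S S)) := by
          rw [Submodule.Quotient.subsingleton_iff]; simp
        exact Subsingleton.elim _ _
      | succ n => exact (hker n x).1 (by rw [hx, map_zero])
    · choose e he using fun n => hs n (pr n y)
      let b : ℕ → S := fun n => Nat.casesOn n 0 e
      have hb : ∀ n, b n ≡ b (n + 1) [SMOD (J ^ n • ⊤ : Submodule S S)] := by
        intro n
        cases n with
        | zero => rw [SModEq.sub_mem]; simp
        | succ n =>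
          rw [SModEq.sub_mem, smul_eq_mul, Ideal.mul_top, ← hk n, RingHom.mem_ker]
          show pl n (e n - e (n + 1)) = 0
          rw [map_sub, sub_eq_zero, ← hpl n (e (n + 1))]
          refine (he n).trans ((hcompat n y).symm.trans ?_)
          exact congrArg (tr n) (he (n + 1)).symm
      refine ⟨AdicCompletion.mk _ _ (AdicCompletion.AdicCauchySequence.mk _ _ b hb), hext _ _ fun n => ?_⟩
      exact (hF _ n (e n) rfl).trans (he n)
  let E := LinearEquiv.ofBijective f hbij
  haveI := AdicCompletion.isAdicComplete (M := S) hJ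
  refine ⟨isAdicComplete_of_equiv E.symm, fun n y => ?_, ⟨E⟩⟩
  obtain ⟨x, rfl⟩ := E.surjective y
  rw [show pr n (E x) = 0 ↔ x.val (n + 1) = 0 from hker n x, ← AdicCompletion.eval_apply, ← LinearMap.mem_ker,
    ← AdicCompletion.pow_smul_top_eq_ker_eval hJ, ← Submodule.restrictScalars_mem S ((J ^ (n + 1)).map _),
    ← Ideal.smul_top_eq_map]
  have : (J ^ (n + 1) • (⊤ : Submodule S (AdicCompletion J S))).map E.toLinearMap = J ^ (n + 1) • ⊤ := by
    rw [Submodule.map_smul'', Submodule.map_top, LinearEquiv.range]
  rw [← this]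
  exact (Iff.trans (Submodule.mem_map_equiv (e := E) _) (by simp)).symm

end Limit

section Base

open AdicRing AdicRingLib

variable {R : Type u} [CommRing R] {I : Ideal R} (hR : IsBase R I) {O : Type u} [CommRing O] [Algebra R O]

include hR

/-- Finitely generated submodules of finite modules over a ring topologically of finite type are closed. -/
theorem mem_of_forall (hO : TopFiniteType R I O) {P : Type u} [AddCommGroup P] [Module O P] [Module.Finite O P]
    (S : Submodule O P) (x : P) (hx : ∀ n : ℕ, x ∈ S ⊔ (I.map (algebraMap R O)) ^ n • (⊤ : Submodule O P)) :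
    x ∈ S := by
  letI : Module R (P ⧸ S) := Module.compHom _ (algebraMap R O)
  haveI : IsScalarTower R O (P ⧸ S) := .of_algebraMap_smul fun _ _ => rfl
  haveI := isAdicComplete_tft hR hO (P ⧸ S)
  refine (Submodule.Quotient.mk_eq_zero S).1 (IsHausdorff.haus (I := I) inferInstance _ fun n => SModEq.zero.2 ?_)
  obtain ⟨s, hs, y, hy, rfl⟩ := Submodule.mem_sup.1 (hx n)
  rw [Submodule.Quotient.mk_add, (Submodule.Quotient.mk_eq_zero S).2 hs, zero_add]
  have h1 := Submodule.mem_map_of_mem (f := S.mkQ) hy
  rw [Submodule.map_smul'', Submodule.map_top, Submodule.range_mkQ, ← Submodule.restrictScalars_mem R,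
    AdicRingLib.map_pow_smul_restrictScalars, Submodule.restrictScalars_top] at h1
  exact h1

/-- A complete algebra with quotient of finite type is topologically of finite type. -/
theorem tft_of_complete [IsAdicComplete (I.map (algebraMap R O)) O]
    [Algebra.FiniteType R (O ⧸ I.map (algebraMap R O))] : TopFiniteType R I O :=
  TruncFP.exists_surjective_of_quot (isBase_fg hR) O

/-- The ideal of definition is in the Jacobson radical. -/
theorem le_jacobson (hO : TopFiniteType R I O) : I.map (algebraMap R O) ≤ Ideal.jacobson ⊥ := by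
  haveI : IsAdicComplete I O := isAdicComplete_tft hR hO O
  haveI : IsAdicComplete (I.map (algebraMap R O)) O := (IsAdicComplete.map_algebraMap_iff (S := O) I O).2 inferInstance
  exact IsAdicComplete.le_jacobson_bot _

/-- The truncation of a topologically finite type algebra is of finite type. -/
theorem finiteType_quot (hO : TopFiniteType R I O) :
    Algebra.FiniteType R (O ⧸ I.map (algebraMap R O)) := by
  obtain ⟨n, φ, hφ⟩ := hO
  have := TruncFP.surjective_trunc φ (isBase_fg hR) hφ 1
  rw [pow_one] at this
  exact Algebra.FiniteType.of_surjective _ this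

end Base

end Groth.Agent.FComplTF
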