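import Groth.Agent.FComplTF.Compl
import Groth.Agent.FAffSysLib.Level
import Groth.Agent.S3873
import Groth.Agent.AdicRingLib.PolyAR
import Groth.Agent.TildeD.TensorQCoh

/-!
# Completed modules on formal spectra over Raynaud base rings
-/

set_option autoImplicit false
set_option linter.style.haveILetI false
set_option backward.isDefEq.respectTransparency false
set_option backward.isDefEq.respectTransparency.types false
set_option maxHeartbeats 400000
universe u

open CategoryTheory CategoryTheory.Limits AlgebraicGeometry TopologicalSpace Opposite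
open scoped TensorProduct

noncomputable section

namespace Groth.Agent.FComplTF

section Abstract

variable {R : Type u} [CommRing R] {S : Type u} [CommRing S] [Algebra R S] [Module.Flat R S]
  {M N P M' N' P' : Type u} [AddCommGroup M] [Module R M] [AddCommGroup N] [Module R N] [AddCommGroup P] [Module R P]
  [AddCommGroup M'] [Module R M'] [Module S M'] [IsScalarTower R S M'] [AddCommGroup N'] [Module R N'] [Module S N']
  [IsScalarTower R S N'] [AddCommGroup P'] [Module R P'] [Module S P'] [IsScalarTower R S P']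

theorem exact_baseChange {f : M →ₗ[R] N} {g : N →ₗ[R] P} (hex : Function.Exact f g) (hg : Function.Surjective g)
    {lM : M →ₗ[R] M'} (hM : IsBaseChange S lM) {lN : N →ₗ[R] N'} (hN : IsBaseChange S lN)
    {lP : P →ₗ[R] P'} (hP : IsBaseChange S lP) (f' : M' →ₗ[S] N') (g' : N' →ₗ[S] P')
    (hf' : ∀ x, f' (lM x) = lN (f x)) (hg' : ∀ x, g' (lN x) = lP (g x)) :
    Function.Exact f' g' ∧ Function.Surjective g' := by
  have h1 : ∀ t, f' (hM.equiv t) = hN.equiv (f.lTensor S t) := fun t => by
    induction t using TensorProduct.induction_on with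
    | zero => simp
    | add a b ha hb => simp [ha, hb]
    | tmul s z => simp [IsBaseChange.equiv_tmul, hf']
  have h2 : ∀ t, g' (hN.equiv t) = hP.equiv (g.lTensor S t) := fun t => by
    induction t using TensorProduct.induction_on with
    | zero => simp
    | add a b ha hb => simp [ha, hb]
    | tmul s z => simp [IsBaseChange.equiv_tmul, hg']
  have hexS := Module.Flat.lTensor_exact S hex
  refine ⟨fun y => ?_, fun y => ?_⟩
  · obtain ⟨t, rfl⟩ := hN.equiv.surjective y
    rw [h2, LinearEquiv.map_eq_zero_iff, hexS t]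
    constructor
    · rintro ⟨w, rfl⟩; exact ⟨hM.equiv w, h1 w⟩
    · rintro ⟨w, hw⟩
      obtain ⟨w', rfl⟩ := hM.equiv.surjective w
      rw [h1] at hw
      exact ⟨w', hN.equiv.injective hw⟩
  · obtain ⟨t, rfl⟩ := hP.equiv.surjective y
    obtain ⟨w, rfl⟩ := LinearMap.lTensor_surjective S hg t
    exact ⟨hN.equiv w, h2 w⟩

end Abstract

/-- Exactness of sections of tilde modules on affine opens. -/
theorem exact_secLin {R : CommRingCat.{u}} {M N P : ModuleCat.{u} R} (u : M ⟶ N) (v : N ⟶ P)
    (hex : Function.Exact u v) (hv : Function.Surjective v) {U : (Spec R).Opens} (hU : IsAffineOpen U) :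
    Function.Exact (secLin ((tilde.functor R).map u) U) (secLin ((tilde.functor R).map v) U) ∧
      Function.Surjective (secLin ((tilde.functor R).map v) U) := by
  let Y := Spec R
  haveI : ∀ K : ModuleCat.{u} R, Coh.IsQCoh ((tilde.functor R).obj K) := TildeD.isQCoh_tilde
  let T := (tilde.functor R)
  let ρ : Γ(Y, ⊤) →+* Γ(Y, U) := (Y.presheaf.map (homOfLE (le_top : U ≤ ⊤)).op).hom
  letI : Algebra Γ(Y, ⊤) Γ(Y, U) := ρ.toAlgebra
  letI : Module Γ(Y, ⊤) Γ(T.obj M, U) := Module.compHom _ ρ
  haveI : IsScalarTower Γ(Y, ⊤) Γ(Y, U) Γ(T.obj M, U) := .of_algebraMap_smul fun _ _ => rfl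
  letI : Module Γ(Y, ⊤) Γ(T.obj N, U) := Module.compHom _ ρ
  haveI : IsScalarTower Γ(Y, ⊤) Γ(Y, U) Γ(T.obj N, U) := .of_algebraMap_smul fun _ _ => rfl
  letI : Module Γ(Y, ⊤) Γ(T.obj P, U) := Module.compHom _ ρ
  haveI : IsScalarTower Γ(Y, ⊤) Γ(Y, U) Γ(T.obj P, U) := .of_algebraMap_smul fun _ _ => rfl
  haveI : Module.Flat Γ(Y, ⊤) Γ(Y, U) := by
    have h1 := Scheme.Hom.flat_appLE (𝟙 Y) (isAffineOpen_top Y) hU (le_top : U ≤ (𝟙 Y) ⁻¹ᵁ ⊤)
    rw [show (𝟙 Y : Y ⟶ Y).appLE ⊤ U le_top = Y.presheaf.map (homOfLE (le_top : U ≤ ⊤)).op by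
      simp [Scheme.Hom.appLE]] at h1
    exact h1
  have hext : Function.Exact (secLin (T.map u) ⊤) (secLin (T.map v) ⊤) := by
    intro y
    obtain ⟨y, rfl⟩ := (FAffSys.top_bijective N).2 y
    show (T.map v).app ⊤ (FAffSys.top N y) = 0 ↔ _
    rw [FAffSys.top_natural, map_eq_zero_iff _ (FAffSys.top_bijective P).1, hex y]
    constructor
    · rintro ⟨x, rfl⟩; exact ⟨FAffSys.top M x, FAffSys.top_natural u x⟩
    · rintro ⟨x, hx⟩
      obtain ⟨x, rfl⟩ := (FAffSys.top_bijective M).2 x
      exact ⟨x, (FAffSys.top_bijective N).1 ((FAffSys.top_natural u x).symm.trans hx)⟩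
  have hvt : Function.Surjective (secLin (T.map v) ⊤) := by
    intro y
    obtain ⟨y, rfl⟩ := (FAffSys.top_bijective P).2 y
    obtain ⟨x, rfl⟩ := hv y
    exact ⟨FAffSys.top N x, FAffSys.top_natural v x⟩
  exact exact_baseChange hext hvt (FCompl.isBaseChange_res (T.obj M) (isAffineOpen_top Y) hU le_top)
    (FCompl.isBaseChange_res (T.obj N) (isAffineOpen_top Y) hU le_top)
    (FCompl.isBaseChange_res (T.obj P) (isAffineOpen_top Y) hU le_top) _ _
    (fun m => congr($((T.map u).mapPresheaf.naturality (homOfLE (le_top : U ≤ ⊤)).op) m))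
    (fun m => congr($((T.map v).mapPresheaf.naturality (homOfLE (le_top : U ≤ ⊤)).op) m))

section Base

variable {R : Type u} [CommRing R] {I : Ideal R} {A : Type u} [CommRing A] [Algebra R A]

variable (I A) in
/-- The ideal sheaf of definition. -/
abbrev idA : (Spec (CommRingCat.of A)).IdealSheafData := FSch.idealSpec A (I.map (algebraMap R A))

lemma top_mem_smul_iff (M : ModuleCat.{u} A) (n : ℕ) (m : M) :
    FAffSys.top (R := CommRingCat.of A) M m ∈
        (idA I A).ideal ⟨⊤, isAffineOpen_top _⟩ ^ n •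
          (⊤ : Submodule Γ(Spec (CommRingCat.of A), ⊤) Γ((tilde.functor (CommRingCat.of A)).obj M, ⊤)) ↔
      m ∈ (I.map (algebraMap R A)) ^ n • (⊤ : Submodule A M) := by
  rw [S3873.idealSpec_top, ← Ideal.map_pow]
  constructor
  · intro hm
    have key : ∀ z ∈ ((I.map (algebraMap R A) ^ n).map (Scheme.ΓSpecIso (CommRingCat.of A)).inv.hom •
        (⊤ : Submodule Γ(Spec (CommRingCat.of A), ⊤) Γ((tilde.functor (CommRingCat.of A)).obj M, ⊤))),
        ∃ x ∈ (I.map (algebraMap R A)) ^ n • (⊤ : Submodule A M), FAffSys.top (R := CommRingCat.of A) M x = z := by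
      intro z hz
      refine Submodule.smul_induction_on hz (fun r hr y _ => ?_) ?_
      · obtain ⟨a, ha, rfl⟩ := (Ideal.mem_map_iff_of_surjective _
          (ConcreteCategory.bijective_of_isIso (Scheme.ΓSpecIso (CommRingCat.of A)).inv).2).1 hr
        obtain ⟨y, rfl⟩ := (FAffSys.top_bijective (R := CommRingCat.of A) M).2 y
        exact ⟨a • y, Submodule.smul_mem_smul ha trivial, FAffSys.top_smul (R := CommRingCat.of A) M a y⟩
      · rintro _ _ ⟨a, ha, rfl⟩ ⟨b, hb, rfl⟩
        exact ⟨a + b, add_mem ha hb, map_add _ _ _⟩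
    obtain ⟨x, hx, hxm⟩ := key _ hm
    exact (FAffSys.top_bijective (R := CommRingCat.of A) M).1 hxm ▸ hx
  · intro hm
    refine Submodule.smul_induction_on hm (fun a ha x _ => ?_) fun x y hx hy => by rw [map_add]; exact add_mem hx hy
    rw [FAffSys.top_smul]
    exact Submodule.smul_mem_smul (Ideal.mem_map_of_mem _ ha) trivial

lemma mem_pow_smul_iff (M : ModuleCat.{u} A) [Module R M] [IsScalarTower R A M] (n : ℕ) (m : M) :
    m ∈ (I.map (algebraMap R A)) ^ n • (⊤ : Submodule A M) ↔ m ∈ I ^ n • (⊤ : Submodule R M) := by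
  rw [← Submodule.restrictScalars_mem R, AdicRingLib.map_pow_smul_restrictScalars, Submodule.restrictScalars_top]

lemma top_sub_mem_iff (M : ModuleCat.{u} A) [Module R M] [IsScalarTower R A M] (n : ℕ) (a b : M) :
    (FAffSys.top (R := CommRingCat.of A) M a ≡ FAffSys.top (R := CommRingCat.of A) M b
      [SMOD (idA I A).ideal ⟨⊤, isAffineOpen_top _⟩ ^ n •
          (⊤ : Submodule Γ(Spec (CommRingCat.of A), ⊤) Γ((tilde.functor (CommRingCat.of A)).obj M, ⊤))]) ↔
      a ≡ b [SMOD I ^ n • (⊤ : Submodule R M)] := by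
  refine SModEq.sub_mem.trans (Iff.trans ?_ SModEq.sub_mem.symm)
  refine Iff.trans ?_ ((top_mem_smul_iff M n (a - b)).trans (mem_pow_smul_iff M n (a - b)))
  exact (map_sub (FAffSys.top (R := CommRingCat.of A) M) a b).symm ▸ Iff.rfl

variable (hR : AdicRing.IsBase R I) (hA : AdicRing.TopFiniteType R I A)
include hR hA

theorem isAdicComplete_sections (M : ModuleCat.{u} A) [Module.Finite A M] :
    IsAdicComplete ((idA I A).ideal ⟨⊤, isAffineOpen_top _⟩)
      Γ((tilde.functor (CommRingCat.of A)).obj M, ⊤) := by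
  letI : Module R M := Module.compHom M (algebraMap R A)
  haveI : IsScalarTower R A M := .of_algebraMap_smul fun _ _ => rfl
  haveI := AdicRingLib.isAdicComplete_tft hR hA M
  refine { haus' := fun z hz => ?_, prec' := fun f hf => ?_ }
  · obtain ⟨m, rfl⟩ := (FAffSys.top_bijective (R := CommRingCat.of A) M).2 z
    rw [IsHausdorff.haus ‹IsAdicComplete I M›.toIsHausdorff m fun n => ?_, map_zero]
    have := SModEq.zero.1 (hz n)
    rw [top_mem_smul_iff, mem_pow_smul_iff] at this
    exact SModEq.zero.2 this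
  · choose g hg using fun n => (FAffSys.top_bijective (R := CommRingCat.of A) M).2 (f n)
    obtain ⟨L, hL⟩ := IsPrecomplete.prec ‹IsAdicComplete I M›.toIsPrecomplete (f := g) fun {p q} hpq =>
      (top_sub_mem_iff M p _ _).1 (by rw [hg, hg]; exact hf hpq)
    refine ⟨FAffSys.top (R := CommRingCat.of A) M L, fun n => ?_⟩
    rw [← hg]
    exact (top_sub_mem_iff M n _ _).2 (hL n)

theorem AR_sections {M N : ModuleCat.{u} A} [Module.Finite A N] (u : M ⟶ N) (hu : Function.Injective u) :
    AR ((idA I A).ideal ⟨⊤, isAffineOpen_top _⟩)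
      (secLin ((tilde.functor (CommRingCat.of A)).map u) ⊤) := by
  letI : Module R M := Module.compHom M (algebraMap R A)
  haveI : IsScalarTower R A M := .of_algebraMap_smul fun _ _ => rfl
  letI : Module R N := Module.compHom N (algebraMap R A)
  haveI : IsScalarTower R A N := .of_algebraMap_smul fun _ _ => rfl
  obtain ⟨k, hk⟩ := AdicRingLib.artinRees_tft hR hA N (LinearMap.range u.hom)
  refine ⟨k, fun m z hz => ?_⟩
  obtain ⟨x, rfl⟩ := (FAffSys.top_bijective (R := CommRingCat.of A) M).2 z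
  have hz' : FAffSys.top (R := CommRingCat.of A) N (u x) ∈ _ := FAffSys.top_natural (R := CommRingCat.of A) u x ▸ hz
  rw [top_mem_smul_iff, mem_pow_smul_iff] at hz'
  have h1 := hk m ⟨hz', ⟨x, rfl⟩⟩
  rw [top_mem_smul_iff, mem_pow_smul_iff]
  let uR : M →ₗ[R] N := u.hom.restrictScalars R
  have h2 : uR x ∈ (I ^ m • (⊤ : Submodule R M)).map uR := by
    rw [Submodule.map_smul'', Submodule.map_top]
    exact h1
  obtain ⟨x', hx', he⟩ := h2
  exact hu he ▸ hx'

omit hA in
theorem fg_idA : ((idA I A).ideal ⟨⊤, isAffineOpen_top _⟩).FG := by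
  rw [S3873.idealSpec_top]
  exact ((AdicRingLib.isBase_fg hR).map _).map _

end Base

end Groth.Agent.FComplTF
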