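import Mathlib

/-!
# Completion of short exact sequences with the Artin–Rees property
-/

set_option autoImplicit false
universe u

open scoped TensorProduct

namespace Groth.Agent.FComplTF

variable {R : Type u} [CommRing R] (J : Ideal R) {M N P : Type u} [AddCommGroup M] [Module R M]
  [AddCommGroup N] [Module R N] [AddCommGroup P] [Module R P]

/-- The Artin–Rees property of a linear map for the adic topologies. -/
def AR (f : M →ₗ[R] N) : Prop :=
  ∃ k : ℕ, ∀ (m : ℕ) (x : M), f x ∈ J ^ (m + k) • (⊤ : Submodule R N) → x ∈ J ^ m • (⊤ : Submodule R M)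

variable {J}

lemma map_val (f : M →ₗ[R] N) (x : AdicCompletion J M) (n : ℕ) (e : M)
    (he : x.val n = Submodule.Quotient.mk e) :
    (AdicCompletion.map J f x).val n = Submodule.Quotient.mk (f e) := by
  rw [AdicCompletion.map_val_apply, he]
  rfl

theorem map_eq_zero_of_AR (f : M →ₗ[R] N) (hf : AR J f) (x : AdicCompletion J M)
    (hx : AdicCompletion.map J f x = 0) : x = 0 := by
  obtain ⟨k, hk⟩ := hf
  obtain ⟨b, rfl⟩ := AdicCompletion.mk_surjective J M x
  refine AdicCompletion.ext fun n => ?_
  have h1 := map_val f (AdicCompletion.mk J M b) (n + k) (b (n + k)) rfl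
  rw [hx] at h1
  have h2 : f (b (n + k)) ∈ J ^ (n + k) • (⊤ : Submodule R N) :=
    (Submodule.Quotient.mk_eq_zero _).1 h1.symm
  show Submodule.Quotient.mk (b n) = 0
  rw [Submodule.Quotient.mk_eq_zero]
  rw [← sub_add_cancel (b n) (b (n + k))]
  exact add_mem (SModEq.sub_mem.1 (b.property (Nat.le_add_right n k))) (hk n _ h2)

theorem exists_of_map_eq_zero (f : M →ₗ[R] N) (g : N →ₗ[R] P) (hf : AR J f) (hfg : Function.Exact f g)
    (hg : Function.Surjective g) (y : AdicCompletion J N) (hy : AdicCompletion.map J g y = 0) :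
    ∃ x, AdicCompletion.map J f x = y := by
  obtain ⟨k, hk⟩ := hf
  obtain ⟨b, rfl⟩ := AdicCompletion.mk_surjective J N y
  have hb : ∀ n, ∃ a : M, b n - f a ∈ J ^ n • (⊤ : Submodule R N) := fun n => by
    have h1 := map_val g (AdicCompletion.mk J N b) n (b n) rfl
    rw [hy] at h1
    have h2 : g (b n) ∈ Submodule.map g (J ^ n • (⊤ : Submodule R N)) := by
      rw [Submodule.map_smul'', Submodule.map_top, LinearMap.range_eq_top.2 hg]
      exact (Submodule.Quotient.mk_eq_zero _).1 h1.symm
    obtain ⟨c, hc, hgc⟩ := h2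
    obtain ⟨a, ha⟩ := (hfg (b n - c)).1 (by rw [map_sub, hgc, sub_self])
    exact ⟨a, by rw [ha, sub_sub_cancel]; exact hc⟩
  choose a ha using hb
  have hle : ∀ {p q : ℕ}, p ≤ q → J ^ q • (⊤ : Submodule R N) ≤ J ^ p • (⊤ : Submodule R N) :=
    fun hpq => Submodule.smul_mono_left (Ideal.pow_le_pow_right hpq)
  refine ⟨AdicCompletion.mk J M (AdicCompletion.AdicCauchySequence.mk J M (fun n => a (n + k)) fun n => ?_), ?_⟩
  · rw [SModEq.sub_mem]
    refine hk n _ ?_
    have h1 := SModEq.sub_mem.1 (b.property (show n + k ≤ n + 1 + k by omega))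
    have e : f (a (n + k) - a (n + 1 + k)) =
        (b (n + k) - b (n + 1 + k)) - (b (n + k) - f (a (n + k))) + (b (n + 1 + k) - f (a (n + 1 + k))) := by
      rw [map_sub]; abel
    rw [e]
    exact add_mem (sub_mem h1 (ha _)) (hle (by omega) (ha _))
  · refine AdicCompletion.ext fun n => ?_
    rw [map_val f _ n (a (n + k)) rfl]
    show Submodule.Quotient.mk (f (a (n + k))) = Submodule.Quotient.mk (b n)
    rw [Submodule.Quotient.eq]
    have h1 := SModEq.sub_mem.1 (b.property (Nat.le_add_right n k))
    have e : f (a (n + k)) - b n = -((b (n + k) - f (a (n + k))) + (b n - b (n + k))) := by abel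
    rw [e]
    exact neg_mem (add_mem (hle (Nat.le_add_right n k) (ha _)) h1)

variable {S : Type u} [CommRing S] [Algebra R S] [Module.Flat R S] {M' N' : Type u} [AddCommGroup M'] [Module R M']
  [Module S M'] [IsScalarTower R S M'] [AddCommGroup N'] [Module R N'] [Module S N'] [IsScalarTower R S N']

omit [Module.Flat R S] in
lemma map_smul_top_of_isBaseChange {l : M →ₗ[R] M'} (hl : IsBaseChange S l) (K : Ideal R) :
    (K.map (algebraMap R S) • (⊤ : Submodule S M')) = Submodule.span S (l '' (K • (⊤ : Submodule R M) : Submodule R M)) := by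
  refine le_antisymm ?_ ?_
  · rw [Ideal.map, Submodule.smul_le]
    intro r hr z hz
    clear hz
    induction hr using Submodule.span_induction with
    | mem r hr =>
      obtain ⟨a, ha, rfl⟩ := hr
      obtain ⟨t, rfl⟩ := hl.equiv.surjective z
      induction t using TensorProduct.induction_on with
      | zero => simp
      | add t t' ht ht' => rw [map_add, smul_add]; exact add_mem ht ht'
      | tmul s m =>
        rw [IsBaseChange.equiv_tmul, smul_comm, algebraMap_smul, ← map_smul]
        exact Submodule.smul_mem _ _ (Submodule.subset_span ⟨_, Submodule.smul_mem_smul ha trivial, rfl⟩)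
    | zero => simp
    | add r r' _ _ hr hr' => rw [add_smul]; exact add_mem hr hr'
    | smul c r _ hr => rw [smul_eq_mul, mul_smul]; exact Submodule.smul_mem _ _ hr
  · rw [Submodule.span_le]
    rintro _ ⟨m, hm, rfl⟩
    refine Submodule.smul_induction_on hm (fun a ha x _ => ?_) fun x y hx hy => ?_
    · rw [map_smul, ← algebraMap_smul S a (l x)]
      exact Submodule.smul_mem_smul (Ideal.mem_map_of_mem _ ha) trivial
    · rw [map_add]; exact add_mem hx hy

/-- The Artin–Rees property passes to flat base changes. -/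
theorem AR.baseChange {f : M →ₗ[R] N} (hf : AR J f) {lM : M →ₗ[R] M'} (hM : IsBaseChange S lM)
    {lN : N →ₗ[R] N'} (hN : IsBaseChange S lN) (f' : M' →ₗ[S] N') (hf' : ∀ x, f' (lM x) = lN (f x)) :
    AR (J.map (algebraMap R S)) f' := by
  obtain ⟨k, hk⟩ := hf
  refine ⟨k, fun m x hx => ?_⟩
  let Q := N ⧸ (J ^ (m + k) • (⊤ : Submodule R N))
  let g : M →ₗ[R] Q := (Submodule.mkQ _).comp f
  have hex : Function.Exact (LinearMap.ker g).subtype g := LinearMap.exact_subtype_ker_map g
  have hexS := Module.Flat.lTensor_exact S hex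
  obtain ⟨t, rfl⟩ := hM.equiv.surjective x
  have h1 : f'.restrictScalars R ∘ₗ (hM.equiv.toLinearMap.restrictScalars R) =
      (hN.equiv.toLinearMap.restrictScalars R) ∘ₗ f.lTensor S := by
    refine TensorProduct.ext' fun s z => ?_
    simp [IsBaseChange.equiv_tmul, hf']
  have h2 : f.lTensor S t ∈ LinearMap.range ((J ^ (m + k) • (⊤ : Submodule R N)).subtype.lTensor S) := by
    have e : hN.equiv (f.lTensor S t) = f' (hM.equiv t) := (LinearMap.congr_fun h1 t).symm
    rw [← Ideal.map_pow, map_smul_top_of_isBaseChange hN] at hx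
    have : ∀ z ∈ Submodule.span S (lN '' (J ^ (m + k) • (⊤ : Submodule R N) : Submodule R N)),
        hN.equiv.symm z ∈ LinearMap.range ((J ^ (m + k) • (⊤ : Submodule R N)).subtype.baseChange S) := by
      intro z hz
      induction hz using Submodule.span_induction with
      | mem z hz =>
        obtain ⟨w, hw, rfl⟩ := hz
        exact ⟨1 ⊗ₜ ⟨w, hw⟩, by rw [LinearMap.baseChange_tmul, hN.equiv_symm_apply]; rfl⟩
      | zero => rw [map_zero]; exact zero_mem _
      | add a b _ _ ha hb => rw [map_add]; exact add_mem ha hb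
      | smul c a _ ha => rw [map_smul]; exact Submodule.smul_mem _ _ ha
    obtain ⟨w, hw⟩ := this _ hx
    rw [← e, LinearEquiv.symm_apply_apply] at hw
    exact ⟨w, hw⟩
  have h3 : g.lTensor S t = 0 := by
    obtain ⟨w, hw⟩ := h2
    rw [LinearMap.lTensor_comp_apply, ← hw, ← LinearMap.lTensor_comp_apply]
    rw [show (Submodule.mkQ _).comp (J ^ (m + k) • (⊤ : Submodule R N)).subtype = 0 from
      LinearMap.ext fun z => (Submodule.Quotient.mk_eq_zero _).2 z.2]
    simp
  obtain ⟨u, rfl⟩ := (hexS t).1 h3
  rw [← Ideal.map_pow, map_smul_top_of_isBaseChange hM]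
  clear h2 h3 hx
  induction u using TensorProduct.induction_on with
  | zero => simp
  | add a b ha hb => rw [map_add, map_add]; exact add_mem ha hb
  | tmul s z =>
    rw [LinearMap.lTensor_tmul, IsBaseChange.equiv_tmul]
    refine Submodule.smul_mem _ _ (Submodule.subset_span ⟨_, hk m _ ?_, rfl⟩)
    exact (Submodule.Quotient.mk_eq_zero _).1 z.2

end Groth.Agent.FComplTF
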