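import Groth.Agent.FComplLib.Morph

/-!
# Morphisms of modules on a formal system, tested on a basis of opens
-/

set_option autoImplicit false
set_option linter.style.haveILetI false
set_option backward.isDefEq.respectTransparency false
set_option backward.isDefEq.respectTransparency.types false
universe u

open CategoryTheory CategoryTheory.Limits AlgebraicGeometry TopologicalSpace Opposite

noncomputable section

namespace Groth.Agent.FComplTF

open Groth.Agent.FCompl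

variable {𝔛 : FSch.Sys.{u}} {h : 𝔛.IsFormal} (B : Set (𝔛.X 0).Opens)
  (hB : ∀ (W : (𝔛.X 0).Opens), ∀ y ∈ W, ∃ Z ∈ B, y ∈ Z ∧ Z ≤ W)
  {M₁ M₂ M₃ : FSch.ModF 𝔛 h}

include hB

lemma eq_zero_of_basis (M : FSch.ModF 𝔛 h) (W : (𝔛.X 0).Opens) (x : M.val.obj (op W))
    (hx : ∀ Z ∈ B, ∀ e : Z ≤ W, FPLocal.mres M (homOfLE e).op x = 0) : x = 0 := by
  choose Z hZB hyZ hZW using hB W
  have hsh : TopCat.Presheaf.IsSheaf (C := AddCommGrpCat.{u}) (X := (𝔛.X 0).carrier) M.val.presheaf := M.isSheaf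
  refine TopCat.Sheaf.eq_of_locally_eq' (⟨_, hsh⟩ : TopCat.Sheaf AddCommGrpCat.{u} (𝔛.X 0).carrier)
    (fun y : W => Z y.1 y.2) W (fun y => homOfLE (hZW y.1 y.2))
    (fun y hy => Opens.mem_iSup.2 ⟨⟨y, hy⟩, hyZ y hy⟩) x 0 fun y => ?_
  rw [map_zero]
  exact hx _ (hZB y.1 y.2) (hZW y.1 y.2)

lemma hom_ext_of_basis (a b : M₁ ⟶ M₂)
    (hab : ∀ Z ∈ B, ∀ x : M₁.val.obj (op Z), (a.val.app (op Z)).hom x = (b.val.app (op Z)).hom x) : a = b := by
  ext W x
  refine sub_eq_zero.1 (eq_zero_of_basis B hB M₂ W.unop _ fun Z hZ e => ?_)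
  rw [map_sub, sub_eq_zero]
  exact (PresheafOfModules.naturality_apply a.val (homOfLE e).op x).symm.trans
    ((hab Z hZ _).trans (PresheafOfModules.naturality_apply b.val (homOfLE e).op x))

lemma mono_of_basis (a : M₁ ⟶ M₂)
    (ha : ∀ Z ∈ B, ∀ x : M₁.val.obj (op Z), (a.val.app (op Z)).hom x = 0 → x = 0) : Mono a := by
  refine Preadditive.mono_of_kernel_zero (hom_ext_of_basis B hB _ _ fun Z hZ y => ?_)
  refine ha Z hZ _ ?_
  exact congrArg (fun f : kernel a ⟶ M₂ => (f.val.app (op Z)).hom y) (kernel.condition a)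

lemma epi_of_basis (a : M₁ ⟶ M₂)
    (ha : ∀ Z ∈ B, ∀ y : M₂.val.obj (op Z), ∃ x, (a.val.app (op Z)).hom x = y) : Epi a := by
  refine FPLocal.epi_of_exists_preimage _ fun W m => ?_
  let S : Sieve W :=
    { arrows := fun Z g => ∃ t : M₁.val.obj (op Z), (a.val.app (op Z)).hom t = FPLocal.mres M₂ g.op m
      downward_closed := fun {Y Z g} ht k => by
        obtain ⟨t, ht⟩ := ht
        refine ⟨FPLocal.mres M₁ k.op t, ?_⟩
        rw [op_comp, FPLocal.mres_comp, ← ht]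
        exact PresheafOfModules.naturality_apply a.val k.op t }
  refine ⟨S, fun y hy => ?_, fun Z g hg => hg⟩
  obtain ⟨Z, hZ, hyZ, hZW⟩ := hB W y hy
  exact ⟨Z, homOfLE hZW, ha Z hZ _, hyZ⟩

omit hB in
lemma kernel_ι_injective (a : M₁ ⟶ M₂) (W : (𝔛.X 0).Opens) :
    Function.Injective ((kernel.ι a).val.app (op W)).hom :=
  (ModuleCat.mono_iff_injective ((SheafOfModules.evaluation (ModSite.ringSh (𝔛.Osh h)) (op W)).map (kernel.ι a))).1
    inferInstance

theorem exact_of_basis (a : M₁ ⟶ M₂) (b : M₂ ⟶ M₃) (w : a ≫ b = 0)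
    (hex : ∀ Z ∈ B, ∀ x : M₂.val.obj (op Z), (b.val.app (op Z)).hom x = 0 →
      ∃ t, (a.val.app (op Z)).hom t = x) :
    (ShortComplex.mk a b w).Exact := by
  rw [ShortComplex.exact_iff_epi_kernel_lift]
  refine epi_of_basis B hB _ fun Z hZ y => ?_
  obtain ⟨t, ht⟩ := hex Z hZ (((kernel.ι b).val.app (op Z)).hom y)
    (congrArg (fun f : kernel b ⟶ M₃ => (f.val.app (op Z)).hom y) (kernel.condition b))
  refine ⟨t, kernel_ι_injective b Z ?_⟩
  refine Eq.trans ?_ ht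
  exact congrArg (fun f : M₁ ⟶ M₂ => (f.val.app (op Z)).hom t) (kernel.lift_ι b a w)

theorem shortExact_of_basis (a : M₁ ⟶ M₂) (b : M₂ ⟶ M₃) (w : a ≫ b = 0)
    (hinj : ∀ Z ∈ B, ∀ x : M₁.val.obj (op Z), (a.val.app (op Z)).hom x = 0 → x = 0)
    (hex : ∀ Z ∈ B, ∀ x : M₂.val.obj (op Z), (b.val.app (op Z)).hom x = 0 →
      ∃ t, (a.val.app (op Z)).hom t = x)
    (hsur : ∀ Z ∈ B, ∀ y : M₃.val.obj (op Z), ∃ x, (b.val.app (op Z)).hom x = y) :
    (ShortComplex.mk a b w).ShortExact :=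
  haveI := mono_of_basis B hB a hinj
  haveI := epi_of_basis B hB b hsur
  { exact := exact_of_basis B hB a b w hex }

end Groth.Agent.FComplTF
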