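import Mathlib

/-!
# Finitely presented modules from finitely presented truncations
-/

set_option autoImplicit false
universe u

namespace Groth.Agent.FComplTF

variable {A : Type u} [CommRing A] {J : Ideal A} {M : ℕ → Type u} [∀ n, AddCommGroup (M n)] [∀ n, Module A (M n)]
  (f : ∀ n, M (n + 1) →ₗ[A] M n)

/-- An adic system of finitely presented modules comes from a finitely presented module, provided the finite
modules are complete and submodules of finite free modules have the Artin–Rees property and are closed. -/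
theorem exists_fp_of_system [IsAdicComplete J A] (hf : ∀ n, Function.Surjective (f n))
    (hk : ∀ n, J ^ (n + 1) • (⊤ : Submodule A (M n)) = ⊥)
    (hker : ∀ n, LinearMap.ker (f n) = J ^ (n + 1) • (⊤ : Submodule A (M (n + 1))))
    (hfp : ∀ n, Module.FinitePresentation A (M n))
    (hfree : ∀ p : ℕ, IsAdicComplete J (Fin p → A))
    (hAR : ∀ (p : ℕ) (N : Submodule A (Fin p → A)), ∃ k, (J ^ (k + 1) • (⊤ : Submodule A (Fin p → A))) ⊓ N ≤ J • N)
    (hclosed : ∀ (p : ℕ) (N : Submodule A (Fin p → A)) x,
      (∀ n, x ∈ N ⊔ J ^ n • (⊤ : Submodule A (Fin p → A))) → x ∈ N) :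
    ∃ (T : Type u) (_ : AddCommGroup T) (_ : Module A T) (π : ∀ n, T →ₗ[A] M n), Module.FinitePresentation A T ∧
      (∀ n, Function.Surjective (π n)) ∧ (∀ n, LinearMap.ker (π n) = J ^ (n + 1) • (⊤ : Submodule A T)) ∧
      ∀ n, (f n).comp (π (n + 1)) = π n := by
  classical
  haveI := hfp 0
  obtain ⟨p, g₀, hg₀⟩ := Module.Finite.exists_fin' A (M 0)
  choose s hs using hf
  let y : ∀ n, Fin p → M n := fun n => Nat.rec (fun i => g₀ (Pi.single i 1)) (fun k yk i => s k (yk i)) n
  let P : ∀ n, (Fin p → A) →ₗ[A] M n := fun n => Fintype.linearCombination A (y n)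
  have hP : ∀ n x, f n (P (n + 1) x) = P n x := fun n x => by
    simp only [P, Fintype.linearCombination_apply, map_sum, map_smul]
    exact Finset.sum_congr rfl fun i _ => congrArg (x i • ·) (hs n (y n i))
  have hP0 : ∀ x, P 0 x = g₀ x := fun x => by
    simp only [P, Fintype.linearCombination_apply]
    conv_rhs => rw [← Finset.univ_sum_single x]
    rw [map_sum]
    refine Finset.sum_congr rfl fun i _ => ?_
    rw [show Pi.single i (x i) = x i • (Pi.single i (1 : A) : Fin p → A) by
      rw [← Pi.single_smul, smul_eq_mul, mul_one], map_smul]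
    rfl
  have hsur : ∀ n, Function.Surjective (P n) := by
    intro n
    induction n with
    | zero => exact fun z => ⟨(hg₀ z).choose, (hP0 _).trans (hg₀ z).choose_spec⟩
    | succ n ih =>
      let Q := LinearMap.range (P (n + 1))
      have h1 : ∀ z, z ∈ Q ⊔ J ^ (n + 1) • (⊤ : Submodule A (M (n + 1))) := fun z => by
        obtain ⟨x, hx⟩ := ih (f n z)
        refine Submodule.mem_sup.2 ⟨P (n + 1) x, ⟨x, rfl⟩, z - P (n + 1) x, ?_, by abel⟩
        rw [← hker n, LinearMap.mem_ker, map_sub, hP, hx, sub_self]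
      have h2 : J ^ (n + 1) • (⊤ : Submodule A (M (n + 1))) ≤ Q := by
        refine Submodule.smul_le.2 fun a ha z _ => ?_
        obtain ⟨q, hq, r, hr, rfl⟩ := Submodule.mem_sup.1 (h1 z)
        rw [smul_add]
        refine add_mem (Q.smul_mem a hq) ?_
        have h3 : a • r ∈ J ^ (n + 1 + 1) • (⊤ : Submodule A (M (n + 1))) := by
          refine Submodule.smul_mono_left (Ideal.pow_le_pow_right (show n + 1 + 1 ≤ (n + 1) + (n + 1) by omega)) ?_
          rw [pow_add, Submodule.mul_smul]
          exact Submodule.smul_mem_smul ha hr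
        rw [hk (n + 1)] at h3
        rw [(Submodule.mem_bot A).1 h3]
        exact zero_mem _
      intro z
      have := (sup_le le_rfl h2 : Q ⊔ _ ≤ Q) (h1 z)
      exact this
  have hJ : ∀ n z, z ∈ J ^ (n + 1) • (⊤ : Submodule A (Fin p → A)) → P n z = 0 := fun n z hz => by
    have := Submodule.mem_map_of_mem (f := P n) hz
    rw [Submodule.map_smul''] at this
    exact (Submodule.mem_bot A).1 ((hk n).le (Submodule.smul_mono le_rfl le_top this))
  let K : Submodule A (Fin p → A) := ⨅ n, LinearMap.ker (P n)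
  -- lifting kernels
  have hlift : ∀ n x, P n x = 0 → x ∈ K ⊔ J ^ (n + 1) • (⊤ : Submodule A (Fin p → A)) := by
    intro n x hx
    have step : ∀ m z, P m z = 0 → ∃ z', P (m + 1) z' = 0 ∧ z' - z ∈ J ^ (m + 1) • (⊤ : Submodule A (Fin p → A)) := by
      intro m z hz
      have h1 : P (m + 1) z ∈ (J ^ (m + 1) • (⊤ : Submodule A (Fin p → A))).map (P (m + 1)) := by
        have e : (⊤ : Submodule A (Fin p → A)).map (P (m + 1)) = ⊤ :=
          eq_top_iff.2 fun w _ => ⟨(hsur (m + 1) w).choose, trivial, (hsur (m + 1) w).choose_spec⟩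
        rw [Submodule.map_smul'', e, ← hker m, LinearMap.mem_ker, hP, hz]
      obtain ⟨d, hd, he⟩ := h1
      exact ⟨z - d, by rw [map_sub, he, sub_self], by rw [sub_sub_cancel_left]; exact neg_mem hd⟩
    choose nx hnx hnx' using step
    let z : ∀ m, {z // P (n + m) z = 0} := fun m =>
      Nat.rec ⟨x, hx⟩ (fun k zk => ⟨nx (n + k) zk.1 zk.2, hnx (n + k) zk.1 zk.2⟩) m
    have hz1 : ∀ m, (z (m + 1)).1 - (z m).1 ∈ J ^ (n + m + 1) • (⊤ : Submodule A (Fin p → A)) :=
      fun m => hnx' (n + m) _ (z m).2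
    have hz2 : ∀ {a b : ℕ}, a ≤ b → (z b).1 - (z a).1 ∈ J ^ (n + a + 1) • (⊤ : Submodule A (Fin p → A)) := by
      intro a b hab
      induction hab with
      | refl => simp
      | @step b hab ih =>
        rw [← sub_add_sub_cancel (z (b + 1)).1 (z b).1 (z a).1]
        exact add_mem (Submodule.smul_mono_left
          (Ideal.pow_le_pow_right (Nat.succ_le_succ (Nat.add_le_add_left hab n))) (hz1 b)) ih
    haveI := hfree p
    obtain ⟨L, hL⟩ := IsPrecomplete.prec (I := J) (M := Fin p → A) inferInstance (f := fun m => (z m).1)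
      fun {a b} hab => by
        rw [SModEq.sub_mem, ← neg_sub]
        exact neg_mem (Submodule.smul_mono_left (Ideal.pow_le_pow_right (by omega)) (hz2 hab))
    have hLz : ∀ a, L - (z a).1 ∈ J ^ (n + a + 1) • (⊤ : Submodule A (Fin p → A)) := fun a => by
      have h1 := SModEq.sub_mem.1 (hL (n + a + 1))
      rw [show L - (z a).1 = ((z (n + a + 1)).1 - (z a).1) - ((z (n + a + 1)).1 - L) by abel]
      exact sub_mem (hz2 (by omega)) h1
    have hK : L ∈ K := Submodule.mem_iInf _ |>.2 fun m => by
      have h1 : P (n + m) L = 0 := by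
        have := hJ (n + m) _ (hLz m)
        rwa [map_sub, (z m).2, sub_zero] at this
      -- descend from `n + m` to `m`
      have : ∀ a b, a ≤ b → P b L = 0 → P a L = 0 := fun a b hab => by
        induction hab with
        | refl => exact id
        | @step b _ ih => exact fun hb => ih (by rw [← hP b L, hb, map_zero])
      exact LinearMap.mem_ker.2 (this m (n + m) (by omega) h1)
    refine Submodule.mem_sup.2 ⟨L, hK, x - L, ?_, by abel⟩
    rw [← neg_sub]
    exact neg_mem (hLz 0)
  -- `K` is finitely generated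
  obtain ⟨k, hk'⟩ := hAR p K
  haveI := hfp k
  obtain ⟨G, hG⟩ := Module.FinitePresentation.fg_ker (P k) (hsur k)
  choose c hc r hr hcr using fun g : G => Submodule.mem_sup.1
    (hlift k g.1 (LinearMap.mem_ker.1 (hG ▸ Submodule.subset_span g.2)))
  let N := Submodule.span A (Set.range c)
  have hNK : N ≤ K := Submodule.span_le.2 (by rintro _ ⟨g, rfl⟩; exact hc g)
  have hKN : K ≤ N ⊔ J • K := fun x hx => by
    have h1 : x ∈ N ⊔ J ^ (k + 1) • (⊤ : Submodule A (Fin p → A)) := by
      have h2 : x ∈ LinearMap.ker (P k) := (iInf_le (fun n => LinearMap.ker (P n)) k) hx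
      rw [← hG] at h2
      refine Submodule.span_le.2 (fun g hg => ?_) h2
      exact Submodule.mem_sup.2 ⟨c ⟨g, hg⟩, Submodule.subset_span ⟨_, rfl⟩, r ⟨g, hg⟩, hr _, hcr _⟩
    obtain ⟨a, ha, b, hb, rfl⟩ := Submodule.mem_sup.1 h1
    exact Submodule.mem_sup.2 ⟨a, ha, b, hk' ⟨hb, by simpa using sub_mem hx (hNK ha)⟩, rfl⟩
  have hKN' : ∀ m, K ≤ N ⊔ J ^ m • K := fun m => by
    induction m with
    | zero => simp
    | succ m ih =>
      refine ih.trans (sup_le le_sup_left ?_)
      rw [pow_succ, Submodule.mul_smul]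
      refine (Submodule.smul_mono le_rfl hKN).trans ?_
      rw [Submodule.smul_sup]
      exact sup_le_sup_right Submodule.smul_le_right _
  have hKeq : K = N := le_antisymm (fun x hx => hclosed p N x fun m =>
    (sup_le_sup_left (Submodule.smul_mono le_rfl le_top) N) (hKN' m hx)) hNK
  have hKfg : K.FG := hKeq ▸ Submodule.fg_span (Set.finite_range c)
  refine ⟨(Fin p → A) ⧸ K, inferInstance, inferInstance,
    fun n => K.liftQ (P n) (iInf_le (fun n => LinearMap.ker (P n)) n),
    Module.finitePresentation_of_surjective K.mkQ K.mkQ_surjective (by rwa [Submodule.ker_mkQ]),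
    fun n z => ?_, fun n => le_antisymm ?_ ?_, fun n => Submodule.linearMap_qext _ (LinearMap.ext fun x => hP n x)⟩
  · obtain ⟨x, hx⟩ := hsur n z
    exact ⟨Submodule.Quotient.mk x, hx⟩
  · intro z hz
    obtain ⟨x, rfl⟩ := Submodule.Quotient.mk_surjective _ z
    obtain ⟨a, ha, b, hb, rfl⟩ := Submodule.mem_sup.1 (hlift n x hz)
    rw [Submodule.Quotient.mk_add, (Submodule.Quotient.mk_eq_zero K).2 ha, zero_add]
    have := Submodule.mem_map_of_mem (f := K.mkQ) hb
    rwa [Submodule.map_smul'', Submodule.map_top, Submodule.range_mkQ] at this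
  · rw [LinearMap.le_ker_iff_map, Submodule.map_smul'', eq_bot_iff, ← hk n]
    exact Submodule.smul_mono le_rfl le_top

end Groth.Agent.FComplTF
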