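import Groth.Agent.FComplTF.Adic
import Groth.Agent.FComplTF.LimFP
import Groth.Agent.FAffSysLib.Presentations
import Groth.Agent.QCohLib.FPSections

/-!
# Systems of finitely presented modules on the levels of a formal spectrum
-/

set_option autoImplicit false
set_option linter.style.haveILetI false
set_option backward.isDefEq.respectTransparency false
set_option backward.isDefEq.respectTransparency.types false
set_option maxHeartbeats 800000
universe u

open CategoryTheory CategoryTheory.Limits AlgebraicGeometry TopologicalSpace Opposite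

noncomputable section

namespace Groth.Agent.FComplTF

open Groth.Agent.FAffSys

section Sys

variable {A : Type u} [CommRing A] {J : Ideal A} {𝔛 : FSch.Sys.{u}} {i : ∀ n, 𝔛.X n ⟶ Spec (CommRingCat.of A)}

/-- A system of finitely presented modules comes from a finitely presented module. -/
theorem exists_fp_module [IsAdicComplete J A] (h : IsLvl J i) (hJ : J.FG) (𝔐 : FSch.ModSys 𝔛)
    (hq : ∀ n, Coh.IsQCoh (𝔐.F n))
    (hfp : ∀ n, SheafOfModules.IsFinitePresentation (R := (𝔛.X n).ringCatSheaf) (𝔐.F n))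
    (hfree : ∀ p : ℕ, IsAdicComplete J (Fin p → A))
    (hAR : ∀ (p : ℕ) (N : Submodule A (Fin p → A)), ∃ k, (J ^ (k + 1) • (⊤ : Submodule A (Fin p → A))) ⊓ N ≤ J • N)
    (hclosed : ∀ (p : ℕ) (N : Submodule A (Fin p → A)) x,
      (∀ n, x ∈ N ⊔ J ^ n • (⊤ : Submodule A (Fin p → A))) → x ∈ N) :
    ∃ M : ModuleCat.{u} (CommRingCat.of A), Module.FinitePresentation A M ∧ Nonempty (𝔐 ≅ sysOf h M) := by
  haveI := h.affine
  letI inst : ∀ n, Module A Γ(𝔐.F n, ⊤) := fun n => Module.compHom _ (φ (i n))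
  let qf : ∀ n, Γ(𝔐.F (n + 1), ⊤) → Γ(𝔐.F n, ⊤) := fun n x => (𝔐.e n).hom.app ⊤ (pt (𝔛.ι n) _ x)
  have hqa : ∀ n (a : A) x, qf n (φ (i (n + 1)) a • x) = φ (i n) a • qf n x := fun n a x => by
    show (𝔐.e n).hom.app ⊤ _ = _
    rw [pt_smul, Scheme.Modules.Hom.app_smul, φ_comm h]
  let f : ∀ n, Γ(𝔐.F (n + 1), ⊤) →ₗ[A] Γ(𝔐.F n, ⊤) := fun n =>
    { toFun := qf n, map_add' := fun x y => by simp only [qf, map_add], map_smul' := hqa n }
  have hιs : ∀ n, Function.Surjective (𝔛.ι n).appTop := fun n r => by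
    obtain ⟨a, rfl⟩ := h.surj n r
    exact ⟨_, φ_comm h n a⟩
  have hes : ∀ n, Function.Bijective ((𝔐.e n).hom.app ⊤) := fun n =>
    ConcreteCategory.bijective_of_isIso ((𝔐.e n).hom.app ⊤)
  have hf : ∀ n, Function.Surjective (f n) := fun n =>
    haveI := hq (n + 1)
    (hes n).2.comp (pt_spec (𝔛.ι n) (hιs n) (𝔐.F (n + 1))).1
  have hk : ∀ n, J ^ (n + 1) • (⊤ : Submodule A Γ(𝔐.F n, ⊤)) = ⊥ := fun n => by
    rw [eq_bot_iff]
    intro x hx
    refine Submodule.smul_induction_on hx (fun a ha m _ => ?_) fun a b ha hb => add_mem ha hb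
    rw [← h.ker n] at ha
    show φ (i n) a • m ∈ _
    rw [RingHom.mem_ker.1 ha, zero_smul]
    exact zero_mem _
  have hker : ∀ n, LinearMap.ker (f n) = J ^ (n + 1) • (⊤ : Submodule A Γ(𝔐.F (n + 1), ⊤)) := fun n => by
    haveI := hq (n + 1)
    refine le_antisymm (fun x hx => ?_) ?_
    · have h1 := ((pt_spec (𝔛.ι n) (hιs n) (𝔐.F (n + 1))).2 x).1 ((hes n).1 (Eq.trans hx (map_zero _).symm))
      refine Submodule.smul_induction_on h1 (fun r hr m _ => ?_) fun a b ha hb => add_mem ha hb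
      obtain ⟨a, rfl⟩ := h.surj (n + 1) r
      have ha : a ∈ J ^ (n + 1) := by
        rw [← h.ker n, RingHom.mem_ker, ← φ_comm h n a]; exact hr
      exact Submodule.smul_mem_smul (M := Γ(𝔐.F (n + 1), ⊤)) ha (Submodule.mem_top (x := m))
    · rw [LinearMap.le_ker_iff_map, Submodule.map_smul'', eq_bot_iff, ← hk n]
      exact Submodule.smul_mono le_rfl le_top
  have hΓfp : ∀ n, Module.FinitePresentation A Γ(𝔐.F n, ⊤) := fun n => by
    haveI := hq n
    haveI := QCohLib.finitePresentation_sections (𝔐.F n) (hfp n) (isAffineOpen_top (𝔛.X n))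
    letI := (φ (i n)).toAlgebra
    haveI : IsScalarTower A Γ(𝔛.X n, ⊤) Γ(𝔐.F n, ⊤) := .of_algebraMap_smul fun _ _ => rfl
    haveI : Module.FinitePresentation A Γ(𝔛.X n, ⊤) :=
      Module.finitePresentation_of_surjective (Algebra.linearMap A _) (h.surj n) (by
        rw [show LinearMap.ker (Algebra.linearMap A Γ(𝔛.X n, ⊤)) = RingHom.ker (φ (i n)) from rfl, h.ker n]
        exact hJ.pow)
    exact Module.FinitePresentation.trans (R := A) (M := Γ(𝔐.F n, ⊤)) Γ(𝔛.X n, ⊤)
  obtain ⟨T, _, _, π, hT, hπs, hπk, hπc⟩ := exists_fp_of_system f hf hk hker hΓfp hfree hAR hclosed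
  let M : ModuleCat.{u} (CommRingCat.of A) := ModuleCat.of (CommRingCat.of A) T
  choose α hα using fun n => exists_hom (i n) (F := 𝔐.F n) (M := M) (π n).toAddMonoidHom fun a m => (π n).map_smul a m
  have hiso : ∀ n, IsIso (α n) := fun n => by
    haveI := hq n
    haveI := isQCoh_tilde M
    haveI := PullbackMod.isQCoh_pullback (i n) (tilde M)
    refine OmegaUnivLib.isIso_of_bijective_cover _ fun x => ⟨⊤, isAffineOpen_top _, trivial, ⟨?_, fun y => ?_⟩⟩
    · rw [injective_iff_map_eq_zero]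
      intro z hz
      obtain ⟨m, rfl⟩ := (L_spec (i n) (h.surj n) M).1 z
      rw [(L_spec (i n) (h.surj n) M).2 m, h.ker n]
      have : m ∈ LinearMap.ker (π n) := (hα n m).symm.trans hz
      rw [hπk n] at this
      exact this
    · obtain ⟨m, rfl⟩ := hπs n y
      exact ⟨_, hα n m⟩
  have hcomm : ∀ n, (Scheme.Modules.pullback (𝔛.ι n)).map (α (n + 1)) ≫ (𝔐.e n).hom = (cIso h M n).hom ≫ α n := by
    intro n
    rw [← Iso.inv_comp_eq]
    refine hom_ext (i n) fun m => ?_
    have h1 : (cIso h M n).inv.app ⊤ (L (i n) M m) = pt (𝔛.ι n) _ (L (i (n + 1)) M m) := by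
      rw [← cIso_L h M n m]
      exact congr($((cIso h M n).hom_inv_id).app ⊤ _)
    rw [hα n m]
    show (𝔐.e n).hom.app ⊤ (((Scheme.Modules.pullback (𝔛.ι n)).map (α (n + 1))).app ⊤
      ((cIso h M n).inv.app ⊤ (L (i n) M m))) = _
    rw [h1, pt_natural, hα (n + 1) m]
    exact LinearMap.congr_fun (hπc n) m
  let β : ∀ n, (sysOf h M).F n ≅ 𝔐.F n := fun n => @asIso _ _ _ _ (α n) (hiso n)
  refine ⟨M, hT, ⟨Iso.symm ⟨⟨fun n => (β n).hom, hcomm⟩, ⟨fun n => (β n).inv, fun n => ?_⟩, ?_, ?_⟩⟩⟩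
  · rw [← cancel_mono (β n).hom, Category.assoc, Category.assoc, Iso.inv_hom_id, Category.comp_id]
    refine (congrArg _ (hcomm n).symm).trans ?_
    rw [← Category.assoc, ← Functor.map_comp]
    exact (congrArg (fun t => t ≫ _) ((congrArg _ (β (n + 1)).inv_hom_id).trans
      (CategoryTheory.Functor.map_id _ _))).trans (Category.id_comp _)
  · exact FSch.ModSys.Hom.ext (funext fun n => (β n).hom_inv_id)
  · exact FSch.ModSys.Hom.ext (funext fun n => (β n).inv_hom_id)

end Sys

section Base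

open AdicRing

variable {R : Type u} [CommRing R] {I : Ideal R} (hR : IsBase R I) {A : Type u} [CommRing A] [Algebra R A]
  (hA : TopFiniteType R I A)

include hR hA

theorem isAdicComplete_map (M : Type u) [AddCommGroup M] [Module A M] [Module.Finite A M] :
    IsAdicComplete (I.map (algebraMap R A)) M := by
  letI : Module R M := Module.compHom M (algebraMap R A)
  haveI : IsScalarTower R A M := .of_algebraMap_smul fun _ _ => rfl
  haveI := AdicRingLib.isAdicComplete_tft hR hA M
  exact (IsAdicComplete.map_algebraMap_iff (S := A) I M).2 inferInstance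

theorem exists_ar_le (p : ℕ) (N : Submodule A (Fin p → A)) :
    ∃ k, ((I.map (algebraMap R A)) ^ (k + 1) • (⊤ : Submodule A (Fin p → A))) ⊓ N ≤ I.map (algebraMap R A) • N := by
  obtain ⟨k, hk⟩ := AdicRingLib.artinRees_tft hR hA (Fin p → A) N
  refine ⟨k, fun x hx => ?_⟩
  have hx1 : x ∈ (I.map (algebraMap R A)) ^ (k + 1) • (⊤ : Submodule A (Fin p → A)) := hx.1
  have hx2 : x ∈ N := hx.2
  rw [← Submodule.restrictScalars_mem R]
  have e := AdicRingLib.map_pow_smul_restrictScalars (S := A) (I := I) (j := 1) (L := N)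
  rw [pow_one, pow_one] at e
  rw [e]
  have h := hk 1
  rw [pow_one, add_comm] at h
  refine h (Submodule.mem_inf.2 ⟨?_, hx2⟩)
  rw [← Submodule.restrictScalars_mem R, AdicRingLib.map_pow_smul_restrictScalars, Submodule.restrictScalars_top] at hx1
  exact hx1

end Base

end Groth.Agent.FComplTF
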