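import Groth.Agent.FComplLib.Realize
import Groth.Agent.FComplTF.Basis

/-!
# A coherent module is the limit of its restrictions, without Noetherian hypotheses
-/

set_option autoImplicit false
set_option linter.style.haveILetI false
set_option backward.isDefEq.respectTransparency false
set_option backward.isDefEq.respectTransparency.types false
set_option maxHeartbeats 1000000
universe u

open CategoryTheory CategoryTheory.Limits AlgebraicGeometry TopologicalSpace Opposite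

noncomputable section

namespace Groth.Agent.FComplTF

open Groth.Agent.FCompl

variable {𝔛 : FSch.Sys.{u}} {h : 𝔛.IsFormal}

variable (h) in
/-- Opens on which the completion behaves as for an affine formal scheme. -/
structure Good (U : (𝔛.X 0).Opens) : Prop where
  affn : ∀ n, IsAffineOpen (𝔛.lvU h n U)
  surj : ∀ n, Function.Surjective (pr 𝔛 h U n)
  ker_le : ∀ n, RingHom.ker (pr 𝔛 h U n) ≤ II 𝔛 h U ^ (n + 1)
  closed : ∀ (I : Type u) [Finite I] (S : Submodule (OR 𝔛 h U) (I → OR 𝔛 h U)) (x : I → OR 𝔛 h U),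
    (∀ n, x ∈ S ⊔ II 𝔛 h U ^ n • (⊤ : Submodule (OR 𝔛 h U) (I → OR 𝔛 h U))) → x ∈ S
  jac : II 𝔛 h U ≤ Ideal.jacobson ⊥

variable (h) in
/-- Opens on which a system has finite sections with the expected kernel. -/
structure GoodMod (𝔐 : FSch.ModSys 𝔛) (U : (𝔛.X 0).Opens) : Prop where
  fin : Module.Finite (OR 𝔛 h U) (OM h 𝔐 U)
  ker0 : ∀ x, pm h 𝔐 U 0 x = 0 → x ∈ II 𝔛 h U • (⊤ : Submodule (OR 𝔛 h U) (OM h 𝔐 U))

variable (𝔉 : FSch.ModF 𝔛 h)

variable {𝔉} {U : (𝔛.X 0).Opens}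

/-- Relations between the images of generators come from relations. -/
theorem relations_eps (hU : Good h U) {I K : Type u} [Fintype I] [Fintype K]
    (s : I → 𝔉.val.obj (op U)) (c : K → I → OR 𝔛 h U) (hs : FPLocal.Gen 𝔉 s)
    (h0 : ∀ j, ∑ i, c j i • s i = 0) (hc : FPLocal.RelComplete 𝔉 c s) (x : I → OR 𝔛 h U)
    (hx : ∑ i, x i • ((eps 𝔉).val.app (op U)).hom (s i) = 0) :
    x ∈ Submodule.span (OR 𝔛 h U) (Set.range c) := by
  classical
  refine hU.closed I _ x fun n => ?_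
  let Q : Submodule (LR 𝔛 h U n) (I → LR 𝔛 h U n) :=
    Submodule.span _ (Set.range fun j => fun i => pr 𝔛 h U n (c j i))
  obtain ⟨G, e, hG, -⟩ := exists_test_module (hU.affn n) ((I → LR 𝔛 h U n) ⧸ Q)
  let nv : I → Γ(G, 𝔛.lvU h n U) := fun i => e (Submodule.Quotient.mk (Pi.single i 1))
  have hcomb : ∀ a : I → LR 𝔛 h U n, ∑ i, a i • nv i = e (Submodule.Quotient.mk a) := fun a => by
    conv_rhs => rw [← Finset.univ_sum_single a]
    rw [← Submodule.mkQ_apply Q, map_sum, map_sum]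
    refine Finset.sum_congr rfl fun i _ => ?_
    rw [show Pi.single i (a i) = a i • (Pi.single i (1 : LR 𝔛 h U n) : I → LR 𝔛 h U n) by
      rw [← Pi.single_smul, smul_eq_mul, mul_one], map_smul, map_smul]
    rfl
  obtain ⟨ψ, hψ⟩ := exists_hom_of_rels 𝔉 ((FSch.levelMor 𝔛 h n).push.obj G) s c hs h0 hc nv (fun j => by
      refine (hcomb (fun i => pr 𝔛 h U n (c j i))).trans ?_
      rw [(Submodule.Quotient.mk_eq_zero Q).2 (Submodule.subset_span ⟨j, rfl⟩), map_zero])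
    (fun W => hG (𝔛.lvU h n W))
  let f := FSch.levelMor 𝔛 h n
  let φ := (f.adj.homEquiv _ _).symm ψ
  have hφ : f.adj.unit.app 𝔉 ≫ f.push.map φ = ψ :=
    (f.adj.homEquiv_unit _ _ _).symm.trans (Equiv.apply_symm_apply _ _)
  have hφs : ∀ i, φ.val.app (op (𝔛.lvU h n U)) (pm h (sysOf 𝔉) U n (((eps 𝔉).val.app (op U)).hom (s i))) =
      nv i := fun i => by
    rw [pm_eps]
    refine Eq.trans ?_ (hψ i)
    exact congr(($hφ).val.app (op U) (s i))
  have h1 : ∑ i, pr 𝔛 h U n (x i) • nv i = 0 := by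
    have e1 := congrArg (φ.val.app (op (𝔛.lvU h n U))) (congrArg (pm h (sysOf 𝔉) U n) hx)
    rw [map_sum, map_sum, map_zero, map_zero] at e1
    refine Eq.trans (Finset.sum_congr rfl fun i _ => ?_) e1
    rw [pm_smul, ← hφs i]
    exact (map_smul (φ.val.app (op (𝔛.lvU h n U))).hom _ _).symm
  rw [hcomb, LinearEquiv.map_eq_zero_iff, Submodule.Quotient.mk_eq_zero] at h1
  obtain ⟨b, hb⟩ := (Submodule.mem_span_range_iff_exists_fun _).1 h1
  choose b' hb' using fun j => hU.surj n (b j)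
  refine Submodule.mem_sup.2 ⟨∑ j, b' j • c j, Submodule.sum_mem _ fun j _ =>
    Submodule.smul_mem _ _ (Submodule.subset_span ⟨j, rfl⟩), x - ∑ j, b' j • c j, ?_, by abel⟩
  rw [← Finset.univ_sum_single (x - ∑ j, b' j • c j)]
  refine Submodule.sum_mem _ fun i _ => ?_
  rw [show Pi.single i ((x - ∑ j, b' j • c j) i) =
      (x - ∑ j, b' j • c j) i • (Pi.single i (1 : OR 𝔛 h U) : I → OR 𝔛 h U) by
    rw [← Pi.single_smul, smul_eq_mul, mul_one]]
  refine Submodule.smul_mem_smul (Ideal.pow_le_pow_right (Nat.le_succ n) (hU.ker_le n ?_)) trivial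
  rw [RingHom.mem_ker, Pi.sub_apply, map_sub, Finset.sum_apply, map_sum, sub_eq_zero]
  rw [← congrFun hb i, Finset.sum_apply]
  refine Finset.sum_congr rfl fun j _ => ?_
  rw [Pi.smul_apply, Pi.smul_apply, smul_eq_mul, smul_eq_mul, map_mul, hb']

/-- Images of generators generate. -/
theorem span_eps (h𝔉 : FSch.IsCohF 𝔛 h 𝔉) (hU : Good h U) (hM : GoodMod h (sysOf 𝔉) U)
    {I : Type u} [Fintype I] (s : I → 𝔉.val.obj (op U)) (hs : FPLocal.Gen 𝔉 s) :
    Submodule.span (OR 𝔛 h U) (Set.range fun i => ((eps 𝔉).val.app (op U)).hom (s i)) = ⊤ := by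
  have hc := sysOf_isCoh 𝔉 h𝔉
  haveI := hM.fin
  let f := FSch.levelMor 𝔛 h 0
  let Q : Submodule (LR 𝔛 h U 0) (LM h (sysOf 𝔉) U 0) :=
    Submodule.span _ (Set.range fun i => pm h (sysOf 𝔉) U 0 (((eps 𝔉).val.app (op U)).hom (s i)))
  obtain ⟨G, e, hG, hD⟩ := exists_test_module (hU.affn 0) (LM h (sysOf 𝔉) U 0 ⧸ Q)
  haveI := (hc 0).1
  obtain ⟨φ, hφ⟩ := (hD ((sysOf 𝔉).F 0)).2 (e.toLinearMap ∘ₗ Q.mkQ)
  let ψ : 𝔉 ⟶ f.push.obj G := f.adj.unit.app 𝔉 ≫ f.push.map φ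
  have hψs : ∀ i, (ψ.val.app (op U)).hom (s i) = 0 := fun i => by
    show φ.app (𝔛.lvU h 0 U) (((f.adj.unit.app 𝔉).val.app (op U)).hom (s i)) = 0
    rw [← pm_eps]
    refine (LinearMap.congr_fun hφ (pm h (sysOf 𝔉) U 0 (((eps 𝔉).val.app (op U)).hom (s i)))).trans ?_
    show e (Submodule.Quotient.mk _) = 0
    rw [(Submodule.Quotient.mk_eq_zero Q).2 (Submodule.subset_span ⟨i, rfl⟩), map_zero]
  have hψ : ψ = 0 := by
    ext W m
    apply (hG (𝔛.lvU h 0 W.unop)).1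
    refine Eq.trans ?_ (map_zero _).symm
    let W' := W.unop ⊓ U
    refine (PresheafOfModules.naturality_apply ψ.val (homOfLE (inf_le_left : W' ≤ W.unop)).op m).symm.trans ?_
    let m' := FPLocal.mres 𝔉 (homOfLE (inf_le_left : W' ≤ W.unop)).op m
    obtain ⟨S, hS, hS'⟩ := hs (homOfLE (inf_le_right : W' ≤ U)) m'
    have hsh : TopCat.Presheaf.IsSheaf (C := AddCommGrpCat.{u}) (X := (𝔛.X 0).carrier) (f.push.obj G).val.presheaf :=
      (f.push.obj G).isSheaf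
    refine TopCat.Sheaf.eq_of_locally_eq' (⟨_, hsh⟩ : TopCat.Sheaf AddCommGrpCat.{u} (𝔛.X 0).carrier)
      (fun Z : {Z : (𝔛.X 0).Opens // ∃ g : Z ⟶ W', S.arrows g} => Z.1) W' (fun Z => Z.2.choose)
      (fun y hy => ?_) ((ψ.val.app (op W')).hom m') 0 fun Z => ?_
    · obtain ⟨Z, g, hg, hyZ⟩ := hS y hy
      exact Opens.mem_iSup.2 ⟨⟨Z, g, hg⟩, hyZ⟩
    · rw [map_zero]
      obtain ⟨Z, hZ⟩ := Z
      obtain ⟨a, ha⟩ := hS' hZ.choose hZ.choose_spec
      refine (PresheafOfModules.naturality_apply ψ.val hZ.choose.op m').symm.trans ?_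
      show (ψ.val.app (op Z)).hom (FPLocal.mres 𝔉 hZ.choose.op m') = 0
      rw [← ha, map_sum]
      refine Finset.sum_eq_zero fun i _ => ?_
      refine (map_smul _ _ _).trans ?_
      refine (congrArg (a i • ·) ((PresheafOfModules.naturality_apply ψ.val _ (s i)).trans
        (congrArg _ (hψs i)))).trans ?_
      rw [map_zero]
      exact smul_zero _
  have hφ0 : φ = 0 := (f.adj.homEquiv _ _).injective (by
    rw [f.adj.homEquiv_unit, f.adj.homEquiv_unit]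
    refine hψ.trans ?_
    rw [Functor.map_zero]
    exact comp_zero.symm)
  have hQ : Q = ⊤ := by
    refine top_le_iff.1 fun z _ => (Submodule.Quotient.mk_eq_zero Q).1 (e.injective ?_)
    rw [map_zero]
    refine ((LinearMap.congr_fun hφ z).symm).trans ?_
    rw [hφ0]
    rfl
  refine top_le_iff.1 (Submodule.le_of_le_smul_of_le_jacobson_bot Module.Finite.fg_top
    hU.jac fun x _ => ?_)
  obtain ⟨a, ha⟩ := (Submodule.mem_span_range_iff_exists_fun _).1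
    (hQ.symm ▸ trivial : pm h (sysOf 𝔉) U 0 x ∈ Q)
  choose a' ha' using fun i => hU.surj 0 (a i)
  refine Submodule.mem_sup.2 ⟨∑ i, a' i • ((eps 𝔉).val.app (op U)).hom (s i), Submodule.sum_mem _ fun i _ =>
    Submodule.smul_mem _ _ (Submodule.subset_span ⟨i, rfl⟩), x - _, ?_, by abel⟩
  have h4 := hM.ker0 (x - ∑ i, a' i • ((eps 𝔉).val.app (op U)).hom (s i)) (by
    rw [map_sub, sub_eq_zero, ← ha, map_sum]
    refine Finset.sum_congr rfl fun i _ => ?_
    rw [pm_smul, ha'])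
  exact h4

variable (B : Set (𝔛.X 0).Opens) (hB : ∀ (W : (𝔛.X 0).Opens), ∀ y ∈ W, ∃ Z ∈ B, y ∈ Z ∧ Z ≤ W)

include hB

/-- Small opens of a basis with presentations. -/
theorem exists_basis_hasRels (h𝔉 : FSch.IsCohF 𝔛 h 𝔉) {W : (𝔛.X 0).Opens} {y : 𝔛.X 0} (hy : y ∈ W) :
    ∃ Z ∈ B, y ∈ Z ∧ Z ≤ W ∧ FPLocal.HasRels 𝔉 Z := by
  haveI : SheafOfModules.IsFinitePresentation (R := ModSite.ringSh (𝔛.Osh h)) 𝔉 := h𝔉
  obtain ⟨S, hS, hS'⟩ := FPLocal.exists_sieve_hasRels 𝔉 W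
  obtain ⟨V, g, hg, hyV⟩ := hS y hy
  obtain ⟨Z, hZ, hyZ, hZV⟩ := hB V y hyV
  exact ⟨Z, hZ, hyZ, hZV.trans (leOfHom g), (hS' g hg).restrict (homOfLE hZV)⟩

theorem eps_app_injective (hG : ∀ Z ∈ B, Good h Z) (h𝔉 : FSch.IsCohF 𝔛 h 𝔉) (W : (𝔛.X 0).Opens)
    (m : 𝔉.val.obj (op W)) (hm : ((eps 𝔉).val.app (op W)).hom m = 0) : m = 0 := by
  have key : ∀ y ∈ W, ∃ Z : (𝔛.X 0).Opens, y ∈ Z ∧ ∃ hZ : Z ≤ W, FPLocal.mres 𝔉 (homOfLE hZ).op m = 0 := by
    intro y hy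
    obtain ⟨Z, hZ, hyZ, hZW, I, K, _, _, s, c, hs, h0, hc⟩ := exists_basis_hasRels B hB h𝔉 hy
    obtain ⟨S, hS, hS'⟩ := hs (𝟙 Z) (FPLocal.mres 𝔉 (homOfLE hZW).op m)
    obtain ⟨V, g, hg, hyV⟩ := hS y hyZ
    obtain ⟨Z₁, hZ₁, hyZ₁, hle⟩ := hB V y hyV
    obtain ⟨a, ha⟩ := hS' (homOfLE hle ≫ g) (S.downward_closed hg _)
    refine ⟨Z₁, hyZ₁, hle.trans ((leOfHom g).trans hZW), ?_⟩
    rw [show (homOfLE (hle.trans ((leOfHom g).trans hZW))).op = (homOfLE hZW).op ≫ (homOfLE hle ≫ g).op from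
      Subsingleton.elim _ _, FPLocal.mres_comp, ← ha]
    let g₁ : Z₁ ⟶ Z := (homOfLE hle ≫ g) ≫ 𝟙 Z
    let c' : K → I → OR 𝔛 h Z₁ := fun k i => ((ModSite.ringSh (𝔛.Osh h)).obj.map g₁.op).hom (c k i)
    have h0' : ∀ k, ∑ i, c' k i • FPLocal.mres 𝔉 g₁.op (s i) = 0 := fun k => by
      have e := congrArg (FPLocal.mres 𝔉 g₁.op) (h0 k)
      rw [map_zero, map_sum] at e
      refine Eq.trans (Finset.sum_congr rfl fun i _ => ?_) e
      exact (PresheafOfModules.map_smul 𝔉.val g₁.op (c k i) (s i)).symm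
    have hmem := relations_eps (hG Z₁ hZ₁) (fun i => FPLocal.mres 𝔉 g₁.op (s i)) c' (hs.restrict g₁) h0'
      (hc.restrict g₁) a (by
        have e1 := congrArg (((eps 𝔉).val.app (op Z₁)).hom) ha
        rw [map_sum] at e1
        refine Eq.trans (Finset.sum_congr rfl fun i _ => (map_smul _ (a i) _).symm) (e1.trans ?_)
        rw [← FPLocal.mres_comp]
        refine (PresheafOfModules.naturality_apply (eps 𝔉).val
          ((homOfLE hZW).op ≫ (homOfLE hle ≫ g).op) m).trans ?_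
        rw [hm, map_zero])
    obtain ⟨b, hb⟩ := (Submodule.mem_span_range_iff_exists_fun _).1 hmem
    show ∑ i, (a i : OR 𝔛 h Z₁) • FPLocal.mres 𝔉 g₁.op (s i) = 0
    rw [← hb]
    simp only [Finset.sum_apply, Pi.smul_apply, smul_eq_mul, Finset.sum_smul]
    rw [Finset.sum_comm]
    refine Finset.sum_eq_zero fun k _ => ?_
    refine Eq.trans ?_ ((congrArg (b k • ·) (h0' k)).trans (smul_zero (b k)))
    show _ = b k • ∑ i, c' k i • FPLocal.mres 𝔉 g₁.op (s i)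
    rw [Finset.smul_sum]
    exact Finset.sum_congr rfl fun i _ => mul_smul _ _ _
  choose Z hyZ hZW hz using key
  have hsh : TopCat.Presheaf.IsSheaf (C := AddCommGrpCat.{u}) (X := (𝔛.X 0).carrier) 𝔉.val.presheaf := 𝔉.isSheaf
  refine TopCat.Sheaf.eq_of_locally_eq' (⟨_, hsh⟩ : TopCat.Sheaf AddCommGrpCat.{u} (𝔛.X 0).carrier)
    (fun y : W => Z y.1 y.2) W (fun y => homOfLE (hZW y.1 y.2))
    (fun y hy => Opens.mem_iSup.2 ⟨⟨y, hy⟩, hyZ y hy⟩) m 0 fun y => ?_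
  rw [map_zero]
  exact hz y.1 y.2

theorem eps_isIso (hG : ∀ Z ∈ B, Good h Z) (h𝔉 : FSch.IsCohF 𝔛 h 𝔉)
    (hM : ∀ Z ∈ B, GoodMod h (sysOf 𝔉) Z) : IsIso (eps 𝔉) := by
  haveI : Mono (eps 𝔉) := by
    refine Preadditive.mono_of_kernel_zero ?_
    ext W y
    refine eps_app_injective B hB hG h𝔉 W.unop _ ?_
    exact congrArg (fun f : kernel (eps 𝔉) ⟶ (sysOf 𝔉).realMod h => (f.val.app W).hom y)
      (kernel.condition (eps 𝔉))
  haveI : Epi (eps 𝔉) := by
    refine FPLocal.epi_of_exists_preimage _ fun W m => ?_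
    let S : Sieve W :=
      { arrows := fun Z g => ∃ t : 𝔉.val.obj (op Z),
          ((eps 𝔉).val.app (op Z)).hom t = FPLocal.mres ((sysOf 𝔉).realMod h) g.op m
        downward_closed := fun {Y Z g} ht k => by
          obtain ⟨t, ht⟩ := ht
          refine ⟨FPLocal.mres 𝔉 k.op t, ?_⟩
          rw [op_comp, FPLocal.mres_comp, ← ht]
          exact PresheafOfModules.naturality_apply (eps 𝔉).val k.op t }
    refine ⟨S, fun y hy => ?_, fun Z g hg => hg⟩
    obtain ⟨Z, hZ, hyZ, hZW, I, K, _, _, s, c, hs, -, -⟩ := exists_basis_hasRels B hB h𝔉 hy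
    refine ⟨Z, homOfLE hZW, ?_, hyZ⟩
    have hmem : (FPLocal.mres ((sysOf 𝔉).realMod h) (homOfLE hZW).op m : OM h (sysOf 𝔉) Z) ∈
        Submodule.span (OR 𝔛 h Z) (Set.range fun i => ((eps 𝔉).val.app (op Z)).hom (s i)) :=
      (span_eps h𝔉 (hG Z hZ) (hM Z hZ) s hs).symm ▸ trivial
    obtain ⟨a, ha⟩ := (Submodule.mem_span_range_iff_exists_fun _).1 hmem
    refine ⟨∑ i, a i • s i, ?_⟩
    rw [map_sum]
    refine Eq.trans (Finset.sum_congr rfl fun i _ => ?_) ha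
    exact map_smul ((eps 𝔉).val.app (op Z)).hom (a i) (s i)
  exact isIso_of_mono_of_epi _

end Groth.Agent.FComplTF
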