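import Groth.Agent.FComplLib.Completion

/-!
# Sections of completed modules on affine opens, without Noetherian hypotheses
-/

set_option autoImplicit false
set_option linter.style.haveILetI false
set_option backward.isDefEq.respectTransparency false
set_option backward.isDefEq.respectTransparency.types false
set_option maxHeartbeats 400000
universe u

open CategoryTheory CategoryTheory.Limits AlgebraicGeometry TopologicalSpace Opposite

noncomputable section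

namespace Groth.Agent.FComplTF

open Groth.Agent.FCompl

variable {Y : Scheme.{u}} {𝓘 : Y.IdealSheafData} (h : (FSch.completionAlong Y 𝓘).IsFormal)

lemma lv_eq (U : Y.Opens) (n : ℕ) :
    FSch.completionToX Y 𝓘 n ⁻¹ᵁ U = (FSch.completionAlong Y 𝓘).lvU h n (FSch.completionToX Y 𝓘 0 ⁻¹ᵁ U) :=
  FSch.lvU_p (FSch.completionAlong Y 𝓘) h (FSch.completionToX Y 𝓘) (FSch.completionToX_comm Y 𝓘) n U

/-- The functions on the `n`-th level. -/
def pl (U : Y.Opens) (n : ℕ) : Γ(Y, U) →+* LR (FSch.completionAlong Y 𝓘) h (FSch.completionToX Y 𝓘 0 ⁻¹ᵁ U) n :=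
  ((FSch.completionToX Y 𝓘 n).appLE U _ (lv_eq h U n).ge).hom

/-- The section of the `n`-th level of a completed module. -/
def sec (F : Y.Modules) (U : Y.Opens) (n : ℕ) :
    Γ(F, U) →+ LM h (FSch.complMod 𝓘 F) (FSch.completionToX Y 𝓘 0 ⁻¹ᵁ U) n where
  toFun m := (complθ Y 𝓘 F n).hom.app _
    (secLv (h := h) (FSch.completionToX Y 𝓘) (FSch.completionToX_comm Y 𝓘) F n U m)
  map_zero' :=
    (congrArg _ (map_zero (PullbackMod.pullMap (FSch.completionToX Y 𝓘 n) F (lv_eq h U n).ge))).trans (map_zero _)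
  map_add' x y :=
    (congrArg _ (map_add (PullbackMod.pullMap (FSch.completionToX Y 𝓘 n) F (lv_eq h U n).ge) x y)).trans
      (map_add _ _ _)

lemma sec_eq (F : Y.Modules) (U : Y.Opens) (n : ℕ) (m : Γ(F, U)) :
    sec h F U n m = (complθ Y 𝓘 F n).hom.app _
      (PullbackMod.pullMap (FSch.completionToX Y 𝓘 n) F (lv_eq h U n).ge m) := rfl

lemma sec_smul (F : Y.Modules) (U : Y.Opens) (n : ℕ) (a : Γ(Y, U)) (m : Γ(F, U)) :
    sec h F U n (a • m) = pl h U n a • sec h F U n m :=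
  (congrArg _ (PullbackMod.pullMap_smul (FSch.completionToX Y 𝓘 n) F (lv_eq h U n).ge a m)).trans
    ((complθ Y 𝓘 F n).hom.app_smul _ _)

lemma sec_eq' (F : Y.Modules) (U : Y.Opens) (n : ℕ) (m : Γ(F, U)) :
    sec h F U n m = (complθ Y 𝓘 F n).hom.app _
      (secLv (h := h) (FSch.completionToX Y 𝓘) (FSch.completionToX_comm Y 𝓘) F n U m) := rfl

lemma tm_sec (F : Y.Modules) (U : Y.Opens) (n : ℕ) (m : Γ(F, U)) :
    tm h (FSch.complMod 𝓘 F) (FSch.completionToX Y 𝓘 0 ⁻¹ᵁ U) n (sec h F U (n + 1) m) = sec h F U n m := by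
  refine (congrArg (fun z => tm h (FSch.complMod 𝓘 F) (FSch.completionToX Y 𝓘 0 ⁻¹ᵁ U) n z)
    (sec_eq' h F U (n + 1) m)).trans ?_
  refine Eq.trans ?_ (sec_eq' h F U n m).symm
  exact complMod_compat Y 𝓘 h F n U m

lemma tr_pl (U : Y.Opens) (n : ℕ) (a : Γ(Y, U)) :
    tr (FSch.completionAlong Y 𝓘) h (FSch.completionToX Y 𝓘 0 ⁻¹ᵁ U) n (pl h U (n + 1) a) = pl h U n a :=
  ConcreteCategory.congr_hom (FSch.appLE_comp_appLE_of_eq _ _ _ (FSch.completionToX_comm Y 𝓘 n) U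
    _ _ (lv_eq h U (n + 1)).ge ((FSch.completionAlong Y 𝓘).lvU_le h n (FSch.completionToX Y 𝓘 0 ⁻¹ᵁ U)) (lv_eq h U n).ge) a

lemma isAffineOpen_lv {U : Y.Opens} (hU : IsAffineOpen U) (n : ℕ) :
    IsAffineOpen ((FSch.completionAlong Y 𝓘).lvU h n (FSch.completionToX Y 𝓘 0 ⁻¹ᵁ U)) := by
  rw [← lv_eq]
  haveI : IsClosedImmersion (FSch.completionToX Y 𝓘 n) :=
    inferInstanceAs (IsClosedImmersion (𝓘 ^ (n + 1)).subschemeι)
  exact hU.preimage _

lemma pl_surjective {U : Y.Opens} (hU : IsAffineOpen U) (n : ℕ) : Function.Surjective (pl h U n) := by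
  haveI : IsClosedImmersion (FSch.completionToX Y 𝓘 n) :=
    inferInstanceAs (IsClosedImmersion (𝓘 ^ (n + 1)).subschemeι)
  intro b
  obtain ⟨c, hc⟩ := (ConcreteCategory.bijective_of_isIso
    (((FSch.completionAlong Y 𝓘).X n).presheaf.map (eqToHom (lv_eq h U n).symm).op)).2 b
  obtain ⟨a, ha⟩ := (FSch.completionToX Y 𝓘 n).app_surjective U hU c
  exact ⟨a, (congrArg _ ha).trans hc⟩

lemma ker_pl {U : Y.Opens} (hU : IsAffineOpen U) (n : ℕ) :
    RingHom.ker (pl h U n) = 𝓘.ideal ⟨U, hU⟩ ^ (n + 1) := by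
  rw [pl, ker_appLE _ _ _ _ (lv_eq h U n), ← Scheme.Hom.ker_apply _ ⟨U, hU⟩]
  show (𝓘 ^ (n + 1)).subschemeι.ker.ideal ⟨U, hU⟩ = _
  rw [Scheme.IdealSheafData.ker_subschemeι, Scheme.IdealSheafData.ideal_pow, Pi.pow_apply]

lemma isBaseChange_sec (F : Y.Modules) [Coh.IsQCoh F] {U : Y.Opens} (hU : IsAffineOpen U) (n : ℕ) :
    letI : Algebra Γ(Y, U) (LR (FSch.completionAlong Y 𝓘) h (FSch.completionToX Y 𝓘 0 ⁻¹ᵁ U) n) := (pl h U n).toAlgebra
    letI : Module Γ(Y, U) (LM h (FSch.complMod 𝓘 F) (FSch.completionToX Y 𝓘 0 ⁻¹ᵁ U) n) := Module.compHom _ (pl h U n)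
    haveI : IsScalarTower Γ(Y, U) (LR (FSch.completionAlong Y 𝓘) h (FSch.completionToX Y 𝓘 0 ⁻¹ᵁ U) n)
      (LM h (FSch.complMod 𝓘 F) (FSch.completionToX Y 𝓘 0 ⁻¹ᵁ U) n) := .of_algebraMap_smul fun _ _ => rfl
    IsBaseChange (LR (FSch.completionAlong Y 𝓘) h (FSch.completionToX Y 𝓘 0 ⁻¹ᵁ U) n)
      ({ sec h F U n with map_smul' := sec_smul h F U n } :
        Γ(F, U) →ₗ[Γ(Y, U)] LM h (FSch.complMod 𝓘 F) (FSch.completionToX Y 𝓘 0 ⁻¹ᵁ U) n) := by
  let P := (Scheme.Modules.pullback (FSch.completionToX Y 𝓘 n)).obj F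
  let W := (FSch.completionAlong Y 𝓘).lvU h n (FSch.completionToX Y 𝓘 0 ⁻¹ᵁ U)
  letI : Algebra Γ(Y, U) (LR (FSch.completionAlong Y 𝓘) h (FSch.completionToX Y 𝓘 0 ⁻¹ᵁ U) n) := (pl h U n).toAlgebra
  letI : Module Γ(Y, U) (LM h (FSch.complMod 𝓘 F) (FSch.completionToX Y 𝓘 0 ⁻¹ᵁ U) n) := Module.compHom _ (pl h U n)
  haveI : IsScalarTower Γ(Y, U) (LR (FSch.completionAlong Y 𝓘) h (FSch.completionToX Y 𝓘 0 ⁻¹ᵁ U) n)
    (LM h (FSch.complMod 𝓘 F) (FSch.completionToX Y 𝓘 0 ⁻¹ᵁ U) n) := .of_algebraMap_smul fun _ _ => rfl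
  letI : Module Γ(Y, U) Γ(P, W) := Module.compHom _ (pl h U n)
  haveI : IsScalarTower Γ(Y, U) (LR (FSch.completionAlong Y 𝓘) h (FSch.completionToX Y 𝓘 0 ⁻¹ᵁ U) n) Γ(P, W) :=
    .of_algebraMap_smul fun _ _ => rfl
  have hl := PullbackMod.isBaseChange_pullMapL (FSch.completionToX Y 𝓘 n) F hU (isAffineOpen_lv h hU n)
    (lv_eq h U n).ge
  let e := complθ Y 𝓘 F n
  let θ : Γ(P, W) ≃ₗ[LR (FSch.completionAlong Y 𝓘) h (FSch.completionToX Y 𝓘 0 ⁻¹ᵁ U) n] LM h (FSch.complMod 𝓘 F) (FSch.completionToX Y 𝓘 0 ⁻¹ᵁ U) n :=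
    LinearEquiv.ofLinearMap
      { toFun := e.hom.app W, map_add' := map_add _, map_smul' := fun a m => e.hom.app_smul a m }
      { toFun := e.inv.app W, map_add' := map_add _, map_smul' := fun a m => e.inv.app_smul a m }
      (LinearMap.ext fun x => congr($(e.inv_hom_id).app W x))
      (LinearMap.ext fun x => congr($(e.hom_inv_id).app W x))
  refine IsBaseChange.of_equiv (hl.equiv ≪≫ₗ θ) fun m => ?_
  show θ (hl.equiv (1 ⊗ₜ m)) = _
  rw [IsBaseChange.equiv_tmul, one_smul]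
  rfl

lemma sec_surjective (F : Y.Modules) [Coh.IsQCoh F] {U : Y.Opens} (hU : IsAffineOpen U) (n : ℕ) :
    Function.Surjective (sec h F U n) := by
  intro z
  letI : Algebra Γ(Y, U) (LR (FSch.completionAlong Y 𝓘) h (FSch.completionToX Y 𝓘 0 ⁻¹ᵁ U) n) := (pl h U n).toAlgebra
  letI : Module Γ(Y, U) (LM h (FSch.complMod 𝓘 F) (FSch.completionToX Y 𝓘 0 ⁻¹ᵁ U) n) := Module.compHom _ (pl h U n)
  haveI : IsScalarTower Γ(Y, U) (LR (FSch.completionAlong Y 𝓘) h (FSch.completionToX Y 𝓘 0 ⁻¹ᵁ U) n)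
    (LM h (FSch.complMod 𝓘 F) (FSch.completionToX Y 𝓘 0 ⁻¹ᵁ U) n) := .of_algebraMap_smul fun _ _ => rfl
  have hb := isBaseChange_sec h F hU n
  obtain ⟨y, rfl⟩ := hb.equiv.surjective z
  induction y using TensorProduct.induction_on with
  | zero => exact ⟨0, by simp⟩
  | add a b ha hb' =>
    obtain ⟨a', ha'⟩ := ha
    obtain ⟨b', hb''⟩ := hb'
    exact ⟨a' + b', by rw [map_add, map_add, ha', hb'']⟩
  | tmul b m =>
    obtain ⟨a, rfl⟩ := pl_surjective h hU n b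
    exact ⟨a • m, by rw [sec_smul, IsBaseChange.equiv_tmul]; rfl⟩

lemma sec_eq_zero_iff (F : Y.Modules) [Coh.IsQCoh F] {U : Y.Opens} (hU : IsAffineOpen U) (n : ℕ)
    (m : Γ(F, U)) :
    sec h F U n m = 0 ↔ m ∈ 𝓘.ideal ⟨U, hU⟩ ^ (n + 1) • (⊤ : Submodule Γ(Y, U) Γ(F, U)) := by
  letI : Algebra Γ(Y, U) (LR (FSch.completionAlong Y 𝓘) h (FSch.completionToX Y 𝓘 0 ⁻¹ᵁ U) n) := (pl h U n).toAlgebra
  letI : Module Γ(Y, U) (LM h (FSch.complMod 𝓘 F) (FSch.completionToX Y 𝓘 0 ⁻¹ᵁ U) n) := Module.compHom _ (pl h U n)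
  haveI : IsScalarTower Γ(Y, U) (LR (FSch.completionAlong Y 𝓘) h (FSch.completionToX Y 𝓘 0 ⁻¹ᵁ U) n)
    (LM h (FSch.complMod 𝓘 F) (FSch.completionToX Y 𝓘 0 ⁻¹ᵁ U) n) := .of_algebraMap_smul fun _ _ => rfl
  have hb := isBaseChange_sec h F hU n
  constructor
  · intro hm
    let K := RingHom.ker (pl h U n)
    let eA : (Γ(Y, U) ⧸ K) ≃ₐ[Γ(Y, U)] LR (FSch.completionAlong Y 𝓘) h (FSch.completionToX Y 𝓘 0 ⁻¹ᵁ U) n :=
      AlgEquiv.ofRingEquiv (f := RingHom.quotientKerEquivOfSurjective (pl_surjective h hU n)) fun x => rfl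
    rw [← ker_pl h hU n]
    have h1 : (1 : LR (FSch.completionAlong Y 𝓘) h (FSch.completionToX Y 𝓘 0 ⁻¹ᵁ U) n) ⊗ₜ[Γ(Y, U)] m = 0 :=
      hb.equiv.injective (by rw [IsBaseChange.equiv_tmul, one_smul, map_zero]; exact hm)
    have h2 := congrArg (TensorProduct.map eA.symm.toLinearMap LinearMap.id) h1
    rw [TensorProduct.map_tmul, map_zero] at h2
    have h3 := congrArg (TensorProduct.quotTensorEquivQuotSMul Γ(F, U) K) h2
    rw [map_zero, show eA.symm.toLinearMap 1 = (1 : Γ(Y, U) ⧸ K) from map_one eA.symm] at h3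
    exact (Submodule.Quotient.mk_eq_zero _).1 (((TensorProduct.quotTensorEquivQuotSMul_mk_tmul _ 1 m).trans
      (congrArg Submodule.Quotient.mk (one_smul _ m))).symm.trans h3)
  · intro hm
    refine Submodule.smul_induction_on hm (fun a ha x _ => ?_) fun x y hx hy => by rw [map_add, hx, hy, add_zero]
    rw [← ker_pl h hU n, RingHom.mem_ker] at ha
    rw [sec_smul, ha, zero_smul]

lemma sec_res (F : Y.Modules) {U W : Y.Opens} (hWU : W ≤ U) (n : ℕ) (m : Γ(F, U)) :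
    rsM h (FSch.complMod 𝓘 F) ((FSch.completionToX Y 𝓘 0).preimage_mono hWU) n (sec h F U n m) =
      sec h F W n (F.presheaf.map (homOfLE hWU).op m) :=
  (congr($((complθ Y 𝓘 F n).hom.mapPresheaf.naturality
    (homOfLE (lvU_mono _ h ((FSch.completionToX Y 𝓘 0).preimage_mono hWU) n)).op)
      (PullbackMod.pullMap (FSch.completionToX Y 𝓘 n) F (lv_eq h U n).ge m))).symm.trans
    (congrArg ((complθ Y 𝓘 F n).hom.app _) (PullbackMod.pullMap_res (FSch.completionToX Y 𝓘 n) F (lv_eq h U n).ge hWU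
      (lvU_mono _ h ((FSch.completionToX Y 𝓘 0).preimage_mono hWU) n) (lv_eq h W n).ge m))

lemma complθ_natural {F G : Y.Modules} (φ : F ⟶ G) (n : ℕ) :
    (complθ Y 𝓘 F n).hom ≫ (FSch.complModMap 𝓘 φ).app n =
      (Scheme.Modules.pullback (FSch.completionToX Y 𝓘 n)).map φ ≫ (complθ Y 𝓘 G n).hom := by
  rw [complθ_hom, complθ_hom]
  exact (Category.id_comp _).trans (Category.comp_id _).symm

lemma sec_natural {F G : Y.Modules} (φ : F ⟶ G) (U : Y.Opens) (n : ℕ) (m : Γ(F, U)) :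
    ((FSch.complModMap 𝓘 φ).app n).app ((FSch.completionAlong Y 𝓘).lvU h n (FSch.completionToX Y 𝓘 0 ⁻¹ᵁ U)) (sec h F U n m) =
      sec h G U n (φ.app U m) :=
  (congr($(complθ_natural φ n).app ((FSch.completionAlong Y 𝓘).lvU h n (FSch.completionToX Y 𝓘 0 ⁻¹ᵁ U))
    (PullbackMod.pullMap (FSch.completionToX Y 𝓘 n) F (lv_eq h U n).ge m))).trans
    (congrArg ((complθ Y 𝓘 G n).hom.app _) (PullbackMod.pullMap_natural (FSch.completionToX Y 𝓘 n) φ (lv_eq h U n).ge m))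

/-- A map of modules on sections. -/
def appO {𝔛 : FSch.Sys.{u}} {h : 𝔛.IsFormal} {M N : FSch.ModF 𝔛 h} (θ : M ⟶ N) (V : (𝔛.X 0).Opens) :
    M.val.obj (op V) →ₗ[OR 𝔛 h V] N.val.obj (op V) :=
  (θ.val.app (op V)).hom

lemma pm_appO {𝔛 : FSch.Sys.{u}} {h : 𝔛.IsFormal} {𝔐 𝔑 : FSch.ModSys 𝔛} (φ : 𝔐 ⟶ 𝔑) (V : (𝔛.X 0).Opens)
    (n : ℕ) (x : OM h 𝔐 V) :
    pm h 𝔑 V n (appO (FSch.ModSys.realModMap h φ) V x) = (φ.app n).app (𝔛.lvU h n V) (pm h 𝔐 V n x) :=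
  congr($(realModMap_proj φ n).val.app (op V) x)

section Completion

variable (F : Y.Modules) [Coh.IsQCoh F] {U : Y.Opens} (hU : IsAffineOpen U)

omit [Coh.IsQCoh F] in
theorem exists_om_of_seq {𝔛 : FSch.Sys.{u}} {h : 𝔛.IsFormal} (𝔐 : FSch.ModSys 𝔛) (V : (𝔛.X 0).Opens) {M : Type u}
    [AddCommGroup M] (s : ∀ n, M →+ LM h 𝔐 V n) (c : ℕ → M)
    (hc : ∀ n, tm h 𝔐 V n (s (n + 1) (c (n + 1))) = s n (c n)) :
    ∃ y : OM h 𝔐 V, ∀ n, pm h 𝔐 V n y = s n (c n) :=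
  (om_existsUnique 𝔐 (fun n => s n (c n)) hc).exists

lemma tm_sec_congr (c : ℕ → Γ(F, U)) (n : ℕ)
    (hc : c (n + 1) - c n ∈ 𝓘.ideal ⟨U, hU⟩ ^ (n + 1) • (⊤ : Submodule Γ(Y, U) Γ(F, U))) :
    tm h (FSch.complMod 𝓘 F) (FSch.completionToX Y 𝓘 0 ⁻¹ᵁ U) n (sec h F U (n + 1) (c (n + 1))) =
      sec h F U n (c n) := by
  refine (tm_sec h F U n (c (n + 1))).trans ?_
  rw [← sub_eq_zero, ← map_sub]
  exact (sec_eq_zero_iff h F hU n _).2 hc

open AdicCompletion in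
theorem exists_family (x : AdicCompletion (𝓘.ideal ⟨U, hU⟩) Γ(F, U)) :
    ∃ y : OM h (FSch.complMod 𝓘 F) (FSch.completionToX Y 𝓘 0 ⁻¹ᵁ U), ∀ n e, x.val (n + 1) = Submodule.Quotient.mk e →
      pm h (FSch.complMod 𝓘 F) (FSch.completionToX Y 𝓘 0 ⁻¹ᵁ U) n y = sec h F U n e := by
  obtain ⟨b, rfl⟩ := AdicCompletion.mk_surjective (𝓘.ideal ⟨U, hU⟩) Γ(F, U) x
  let c : ℕ → Γ(F, U) := fun n => b (n + 1)
  obtain ⟨y, hy⟩ := exists_om_of_seq (h := h) (FSch.complMod 𝓘 F) (FSch.completionToX Y 𝓘 0 ⁻¹ᵁ U)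
    (sec h F U) c fun n => tm_sec_congr h F hU c n
      (SModEq.sub_mem.1 (b.property (Nat.le_add_right (n + 1) 1)).symm)
  refine ⟨y, fun n e he => (hy n).trans ?_⟩
  rw [← sub_eq_zero, ← map_sub]
  exact (sec_eq_zero_iff h F hU n _).2 ((Submodule.Quotient.eq _).1 he)

/-- The sections of a completed module over an affine open are the completion of the sections. -/
def psi : AdicCompletion (𝓘.ideal ⟨U, hU⟩) Γ(F, U) →+ OM h (FSch.complMod 𝓘 F) (FSch.completionToX Y 𝓘 0 ⁻¹ᵁ U) where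
  toFun x := (exists_family h F hU x).choose
  map_zero' := om_ext _ fun n => by
    rw [(exists_family h F hU 0).choose_spec n 0 rfl, map_zero, map_zero]
  map_add' x y := om_ext _ fun n => by
    obtain ⟨e, he⟩ := Submodule.Quotient.mk_surjective _ (x.val (n + 1))
    obtain ⟨e', he'⟩ := Submodule.Quotient.mk_surjective _ (y.val (n + 1))
    rw [map_add, (exists_family h F hU x).choose_spec n e he.symm,
      (exists_family h F hU y).choose_spec n e' he'.symm,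
      (exists_family h F hU (x + y)).choose_spec n (e + e') (by
        rw [Submodule.Quotient.mk_add, he, he']; rfl), map_add]

lemma pm_psi (x : AdicCompletion (𝓘.ideal ⟨U, hU⟩) Γ(F, U)) (n : ℕ) (e : Γ(F, U))
    (he : x.val (n + 1) = Submodule.Quotient.mk e) :
    pm h (FSch.complMod 𝓘 F) (FSch.completionToX Y 𝓘 0 ⁻¹ᵁ U) n (psi h F hU x) = sec h F U n e :=
  (exists_family h F hU x).choose_spec n e he

theorem psi_bijective : Function.Bijective (psi h F hU) := by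
  constructor
  · rw [injective_iff_map_eq_zero]
    intro x hx
    refine AdicCompletion.ext fun n => ?_
    cases n with
    | zero =>
      haveI : Subsingleton (Γ(F, U) ⧸ (𝓘.ideal ⟨U, hU⟩ ^ 0 • ⊤ : Submodule Γ(Y, U) Γ(F, U))) := by
        rw [Submodule.Quotient.subsingleton_iff]; simp
      exact Subsingleton.elim _ _
    | succ n =>
      obtain ⟨e, he⟩ := Submodule.Quotient.mk_surjective _ (x.val (n + 1))
      have := pm_psi h F hU x n e he.symm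
      rw [hx, map_zero] at this
      show x.val (n + 1) = 0
      rw [← he, Submodule.Quotient.mk_eq_zero, ← sec_eq_zero_iff h F hU]
      exact this.symm
  · intro y
    choose e he using fun n => sec_surjective h F hU n (pm h (FSch.complMod 𝓘 F) (FSch.completionToX Y 𝓘 0 ⁻¹ᵁ U) n y)
    let b : ℕ → Γ(F, U) := fun n => Nat.casesOn n 0 e
    have hb : ∀ n, b n ≡ b (n + 1) [SMOD (𝓘.ideal ⟨U, hU⟩ ^ n • ⊤ : Submodule Γ(Y, U) Γ(F, U))] := by
      intro n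
      cases n with
      | zero => rw [SModEq.sub_mem]; simp
      | succ n =>
        rw [SModEq.sub_mem, ← sec_eq_zero_iff h F hU]
        show sec h F U n (e n - e (n + 1)) = 0
        rw [map_sub, he, ← tm_sec h F U n (e (n + 1)), he, tm_pm, sub_self]
    refine ⟨AdicCompletion.mk _ _ (AdicCompletion.AdicCauchySequence.mk _ _ b hb), om_ext _ fun n => ?_⟩
    rw [pm_psi h F hU _ n (e n) rfl, he]

theorem exists_sh (a : Γ(Y, U)) :
    ∃ x : OR (FSch.completionAlong Y 𝓘) h (FSch.completionToX Y 𝓘 0 ⁻¹ᵁ U),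
      ∀ n, pr (FSch.completionAlong Y 𝓘) h (FSch.completionToX Y 𝓘 0 ⁻¹ᵁ U) n x = pl h U n a :=
  osh_lift (fun n => pl h U n a) fun n => tr_pl h U n a

/-- A function as a function on the completion. -/
def sh (a : Γ(Y, U)) : OR (FSch.completionAlong Y 𝓘) h (FSch.completionToX Y 𝓘 0 ⁻¹ᵁ U) := (exists_sh (U := U) h a).choose

omit [Coh.IsQCoh F] in
lemma pr_sh (a : Γ(Y, U)) (n : ℕ) :
    pr (FSch.completionAlong Y 𝓘) h (FSch.completionToX Y 𝓘 0 ⁻¹ᵁ U) n (sh h a) = pl h U n a :=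
  (exists_sh (U := U) h a).choose_spec n

lemma psi_smul (a : Γ(Y, U)) (x : AdicCompletion (𝓘.ideal ⟨U, hU⟩) Γ(F, U)) :
    psi h F hU (a • x) = sh h a • psi h F hU x := om_ext _ fun n => by
  obtain ⟨e, he⟩ := Submodule.Quotient.mk_surjective _ (x.val (n + 1))
  rw [pm_smul, pr_sh, pm_psi h F hU x n e he.symm, ← sec_smul,
    pm_psi h F hU (a • x) n (a • e) (by rw [Submodule.Quotient.mk_smul, he]; rfl)]

/-- The completed section of a section. -/
def xi : Γ(F, U) →+ OM h (FSch.complMod 𝓘 F) (FSch.completionToX Y 𝓘 0 ⁻¹ᵁ U) :=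
  (psi h F hU).comp (AdicCompletion.of (𝓘.ideal ⟨U, hU⟩) Γ(F, U)).toAddMonoidHom

lemma pm_xi (m : Γ(F, U)) (n : ℕ) :
    pm h (FSch.complMod 𝓘 F) (FSch.completionToX Y 𝓘 0 ⁻¹ᵁ U) n (xi h F hU m) = sec h F U n m :=
  pm_psi h F hU _ n m rfl

lemma xi_smul (a : Γ(Y, U)) (m : Γ(F, U)) : xi h F hU (a • m) = sh h a • xi h F hU m := by
  show psi h F hU (AdicCompletion.of _ _ (a • m)) = _
  rw [map_smul, psi_smul]
  rfl

theorem xi_injective [IsHausdorff (𝓘.ideal ⟨U, hU⟩) Γ(F, U)] : Function.Injective (xi h F hU) :=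
  (psi_bijective h F hU).1.comp (AdicCompletion.of_injective _ _)

theorem xi_surjective [IsPrecomplete (𝓘.ideal ⟨U, hU⟩) Γ(F, U)] : Function.Surjective (xi h F hU) :=
  (psi_bijective h F hU).2.comp (AdicCompletion.of_surjective _ _)

/-- Sections vanishing on a level come from the power of the ideal. -/
theorem mem_span_of_pm_eq_zero (hfg : (𝓘.ideal ⟨U, hU⟩).FG) (n : ℕ)
    (x : OM h (FSch.complMod 𝓘 F) (FSch.completionToX Y 𝓘 0 ⁻¹ᵁ U)) (hx : pm h (FSch.complMod 𝓘 F) (FSch.completionToX Y 𝓘 0 ⁻¹ᵁ U) n x = 0) :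
    x ∈ Submodule.span (OR (FSch.completionAlong Y 𝓘) h (FSch.completionToX Y 𝓘 0 ⁻¹ᵁ U))
      {z | ∃ a ∈ 𝓘.ideal ⟨U, hU⟩ ^ (n + 1), ∃ w : OM h (FSch.complMod 𝓘 F) (FSch.completionToX Y 𝓘 0 ⁻¹ᵁ U), z = sh h a • w} := by
  obtain ⟨z, rfl⟩ := (psi_bijective h F hU).2 x
  have hz : z ∈ 𝓘.ideal ⟨U, hU⟩ ^ (n + 1) • (⊤ : Submodule Γ(Y, U) (AdicCompletion (𝓘.ideal ⟨U, hU⟩) Γ(F, U))) := by
    rw [AdicCompletion.pow_smul_top_eq_ker_eval hfg, LinearMap.mem_ker, AdicCompletion.eval_apply]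
    obtain ⟨e, he⟩ := Submodule.Quotient.mk_surjective _ (z.val (n + 1))
    rw [pm_psi h F hU z n e he.symm] at hx
    rw [← he, Submodule.Quotient.mk_eq_zero, ← sec_eq_zero_iff h F hU]
    exact hx
  clear hx
  refine Submodule.smul_induction_on hz (fun a ha w _ => ?_) fun v w hv hw => ?_
  · rw [psi_smul]; exact Submodule.subset_span ⟨a, ha, _, rfl⟩
  · rw [map_add]; exact add_mem hv hw

end Completion

end Groth.Agent.FComplTF
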