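import Groth.Agent.FComplTF.Adic
import Groth.Agent.FComplTF.EpsIso
import Groth.Agent.FComplTF.Sections

/-!
# Affine opens of a completion with finite type reduction over a Raynaud base ring
-/

set_option autoImplicit false
set_option linter.style.haveILetI false
set_option backward.isDefEq.respectTransparency false
set_option backward.isDefEq.respectTransparency.types false
set_option maxHeartbeats 1000000
universe u

open CategoryTheory CategoryTheory.Limits AlgebraicGeometry TopologicalSpace Opposite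

noncomputable section

namespace Groth.Agent.FComplTF

open Groth.Agent.FCompl

variable {Y : Scheme.{u}} {𝓘 : Y.IdealSheafData} (h : (FSch.completionAlong Y 𝓘).IsFormal)

/-- Functions as functions on the completion, as a ring map. -/
def shHom (U : Y.Opens) :
    Γ(Y, U) →+* OR (FSch.completionAlong Y 𝓘) h (FSch.completionToX Y 𝓘 0 ⁻¹ᵁ U) where
  toFun := sh h
  map_one' := osh_ext fun n => by rw [pr_sh, map_one, map_one]
  map_mul' a b := osh_ext fun n => by rw [pr_sh, map_mul, map_mul, pr_sh, pr_sh]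
  map_zero' := osh_ext fun n => by rw [pr_sh, map_zero, map_zero]
  map_add' a b := osh_ext fun n => by rw [pr_sh, map_add, map_add, pr_sh, pr_sh]

lemma pr_comp_shHom (U : Y.Opens) (n : ℕ) :
    (pr (FSch.completionAlong Y 𝓘) h (FSch.completionToX Y 𝓘 0 ⁻¹ᵁ U) n).comp (shHom h U) = pl h U n :=
  RingHom.ext fun a => pr_sh h a n

variable {U : Y.Opens} (hU : IsAffineOpen U)

lemma II_eq (hfg : (𝓘.ideal ⟨U, hU⟩).FG) :
    IsAdicComplete ((𝓘.ideal ⟨U, hU⟩).map (shHom h U))
        (OR (FSch.completionAlong Y 𝓘) h (FSch.completionToX Y 𝓘 0 ⁻¹ᵁ U)) ∧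
      (∀ n, RingHom.ker (pr (FSch.completionAlong Y 𝓘) h (FSch.completionToX Y 𝓘 0 ⁻¹ᵁ U) n) =
        ((𝓘.ideal ⟨U, hU⟩).map (shHom h U)) ^ (n + 1)) ∧
      II (FSch.completionAlong Y 𝓘) h (FSch.completionToX Y 𝓘 0 ⁻¹ᵁ U) = (𝓘.ideal ⟨U, hU⟩).map (shHom h U) := by
  let O := OR (FSch.completionAlong Y 𝓘) h (FSch.completionToX Y 𝓘 0 ⁻¹ᵁ U)
  letI : Algebra Γ(Y, U) O := (shHom h U).toAlgebra
  obtain ⟨hc, hk, -⟩ := exists_equiv_completion (S := Γ(Y, U)) (O := O)
    (pr (FSch.completionAlong Y 𝓘) h (FSch.completionToX Y 𝓘 0 ⁻¹ᵁ U))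
    (tr (FSch.completionAlong Y 𝓘) h (FSch.completionToX Y 𝓘 0 ⁻¹ᵁ U)) hfg
    (tr_pr (FSch.completionAlong Y 𝓘) h (FSch.completionToX Y 𝓘 0 ⁻¹ᵁ U)) (fun x y => osh_ext) osh_lift
    (fun n => by
      show Function.Surjective ((pr (FSch.completionAlong Y 𝓘) h _ n).comp (shHom h U))
      rw [pr_comp_shHom]; exact pl_surjective h hU n)
    (fun n => by
      show RingHom.ker ((pr (FSch.completionAlong Y 𝓘) h _ n).comp (shHom h U)) = _
      rw [pr_comp_shHom]; exact ker_pl h hU n)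
  have hkn : ∀ n, RingHom.ker (pr (FSch.completionAlong Y 𝓘) h (FSch.completionToX Y 𝓘 0 ⁻¹ᵁ U) n) =
      ((𝓘.ideal ⟨U, hU⟩).map (shHom h U)) ^ (n + 1) := fun n => by
    ext x
    rw [RingHom.mem_ker, hk n x, Ideal.map_pow]
    rfl
  refine ⟨(IsAdicComplete.map_algebraMap_iff (S := O) (𝓘.ideal ⟨U, hU⟩) O).2 hc, hkn, ?_⟩
  have := hkn 0
  rw [zero_add, pow_one] at this
  exact this

variable {R : Type u} [CommRing R] {I : Ideal R} (hR : AdicRing.IsBase R I) (ψ : R →+* Γ(Y, U))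
  (hψ : 𝓘.ideal ⟨U, hU⟩ = I.map ψ) (hft : ((Ideal.Quotient.mk (𝓘.ideal ⟨U, hU⟩)).comp ψ).FiniteType)

include hR hψ in
theorem fg_ideal : (𝓘.ideal ⟨U, hU⟩).FG := by
  rw [hψ]; exact (AdicRingLib.isBase_fg hR).map _

include hR hψ hft

theorem good : Good h (FSch.completionToX Y 𝓘 0 ⁻¹ᵁ U) := by
  obtain ⟨hc, hk, hII⟩ := II_eq h hU (fg_ideal hU hR ψ hψ)
  let O := OR (FSch.completionAlong Y 𝓘) h (FSch.completionToX Y 𝓘 0 ⁻¹ᵁ U)
  letI : Algebra R O := ((shHom h U).comp ψ).toAlgebra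
  have hII' : II (FSch.completionAlong Y 𝓘) h (FSch.completionToX Y 𝓘 0 ⁻¹ᵁ U) = I.map (algebraMap R O) := by
    rw [hII, hψ, Ideal.map_map]; rfl
  have hsur : ∀ n, Function.Surjective (pr (FSch.completionAlong Y 𝓘) h (FSch.completionToX Y 𝓘 0 ⁻¹ᵁ U) n) :=
    fun n y => ⟨_, (pr_sh h _ n).trans (pl_surjective h hU n y).choose_spec⟩
  haveI : IsAdicComplete (I.map (algebraMap R O)) O := hII' ▸ hII.symm ▸ hc
  haveI : Algebra.FiniteType R (O ⧸ I.map (algebraMap R O)) := by
    have hle : 𝓘.ideal ⟨U, hU⟩ ≤ (I.map (algebraMap R O)).comap (shHom h U) := by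
      rw [← Ideal.map_le_iff_le_comap, ← hII, hII']
    have hs : Function.Surjective (Ideal.quotientMap (I.map (algebraMap R O)) (shHom h U) hle) := fun q => by
      obtain ⟨o, rfl⟩ := Ideal.Quotient.mk_surjective q
      obtain ⟨s, hs⟩ := pl_surjective h hU 0 (pr (FSch.completionAlong Y 𝓘) h _ 0 o)
      refine ⟨Ideal.Quotient.mk _ s, Ideal.Quotient.eq.2 ?_⟩
      rw [← hII']
      show pr (FSch.completionAlong Y 𝓘) h _ 0 (sh h s - o) = 0
      rw [map_sub, pr_sh, hs, sub_self]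
    have h1 := (RingHom.FiniteType.of_surjective _ hs).comp hft
    rw [← RingHom.finiteType_algebraMap]
    exact h1
  have htft : AdicRing.TopFiniteType R I O := tft_of_complete hR
  exact {
    affn := isAffineOpen_lv h hU
    surj := hsur
    ker_le := fun n => by rw [hk n, hII]
    closed := fun ι _ S x hx => mem_of_forall hR htft S x (hII' ▸ hx)
    jac := hII' ▸ le_jacobson hR htft }

theorem goodMod (F : Y.Modules) [Coh.IsQCoh F] [Module.Finite Γ(Y, U) Γ(F, U)] :
    GoodMod h (FSch.complMod 𝓘 F) (FSch.completionToX Y 𝓘 0 ⁻¹ᵁ U) := by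
  have hfg := fg_ideal hU hR ψ hψ
  obtain ⟨hc, hk, hII⟩ := II_eq h hU hfg
  let J := 𝓘.ideal ⟨U, hU⟩
  refine ⟨?_, fun x hx => ?_⟩
  · obtain ⟨k, g, hg⟩ := Module.Finite.exists_fin (R := Γ(Y, U)) (M := Γ(F, U))
    refine ⟨Submodule.fg_def.2 ⟨_, Set.finite_range (fun i => xi h F hU (g i)), eq_top_iff.2 fun x _ => ?_⟩⟩
    choose e he using fun n => sec_surjective h F hU n (pm h (FSch.complMod 𝓘 F) _ n x)
    have hdiff : ∀ n, e (n + 1) - e n ∈ J ^ (n + 1) • (⊤ : Submodule Γ(Y, U) Γ(F, U)) := fun n => by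
      rw [← sec_eq_zero_iff h F hU, map_sub, he, ← tm_sec h F U n (e (n + 1)), he, tm_pm, sub_self]
    have hcoef : ∀ n, ∃ a : Fin k → Γ(Y, U), (∀ i, a i ∈ J ^ (n + 1)) ∧ ∑ i, a i • g i = e (n + 1) - e n := by
      intro n
      refine Submodule.smul_induction_on (hdiff n) (fun r hr m _ => ?_) fun u v hu hv => ?_
      · obtain ⟨b, hb⟩ := (Submodule.mem_span_range_iff_exists_fun Γ(Y, U)).1 (hg ▸ Submodule.mem_top (x := m))
        exact ⟨fun i => r * b i, fun i => Ideal.mul_mem_right _ _ hr, by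
          rw [← hb, Finset.smul_sum]; exact Finset.sum_congr rfl fun i _ => mul_smul _ _ _⟩
      · obtain ⟨a, ha, ha'⟩ := hu
        obtain ⟨b, hb, hb'⟩ := hv
        exact ⟨a + b, fun i => add_mem (ha i) (hb i), by
          simp only [Pi.add_apply, add_smul, Finset.sum_add_distrib, ha', hb']⟩
    choose d hd hd' using hcoef
    obtain ⟨b, hb⟩ := (Submodule.mem_span_range_iff_exists_fun Γ(Y, U)).1 (hg ▸ Submodule.mem_top (x := e 0))
    let a : ℕ → Fin k → Γ(Y, U) := fun n => Nat.rec b (fun m am i => am i + d m i) n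
    have ha : ∀ n, ∑ i, a n i • g i = e n := fun n => by
      induction n with
      | zero => exact hb
      | succ n ih =>
        show ∑ i, (a n i + d n i) • g i = _
        simp only [add_smul, Finset.sum_add_distrib, ih, hd', add_sub_cancel]
    choose c hcO using fun i => osh_lift (𝔛 := FSch.completionAlong Y 𝓘) (h := h)
      (U := FSch.completionToX Y 𝓘 0 ⁻¹ᵁ U) (fun n => pl h U n (a n i)) fun n => by
        rw [tr_pl]
        show pl h U n (a n i + d n i) = _
        have h0 : pl h U n (d n i) = 0 := RingHom.mem_ker.1 ((ker_pl h hU n).symm ▸ hd n i :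
          d n i ∈ RingHom.ker (pl h U n))
        rw [map_add, h0, add_zero]
    refine (Submodule.mem_span_range_iff_exists_fun _).2 ⟨c, om_ext _ fun n => ?_⟩
    rw [map_sum, ← he n, ← ha n, map_sum]
    exact Finset.sum_congr rfl fun i _ => by rw [pm_smul, pm_xi, hcO, sec_smul]
  · have h1 := mem_span_of_pm_eq_zero h F hU hfg 0 x hx
    refine Submodule.span_le.2 ?_ h1
    rintro _ ⟨a, ha, w, rfl⟩
    refine Submodule.smul_mem_smul ?_ trivial
    rw [zero_add, pow_one] at ha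
    rw [hII]
    exact Ideal.mem_map_of_mem (shHom h U) ha

end Groth.Agent.FComplTF
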