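import Groth.Agent.FComplTF.Affine
import Groth.Agent.FPLocal.EpiFree

/-!
# Fully faithfulness and exactness of completion on formal spectra
-/

set_option autoImplicit false
set_option linter.style.haveILetI false
set_option backward.isDefEq.respectTransparency false
set_option backward.isDefEq.respectTransparency.types false
set_option maxHeartbeats 400000
universe u

open CategoryTheory CategoryTheory.Limits AlgebraicGeometry TopologicalSpace Opposite

noncomputable section

namespace Groth.Agent.FComplTF

open Groth.Agent.FCompl

variable {R : Type u} [CommRing R] {I : Ideal R} (hR : AdicRing.IsBase R I)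
  {A : Type u} [CommRing A] [Algebra R A] (hA : AdicRing.TopFiniteType R I A)
  (h : (FSch.completionAlong (Spec (CommRingCat.of A)) (idA I A)).IsFormal)

/-- The completed section of an element of a module. -/
def eta (M : ModuleCat.{u} A) :
    M →+ OM h (FSch.complMod (idA I A) ((tilde.functor (CommRingCat.of A)).obj M))
      (FSch.completionToX (Spec (CommRingCat.of A)) (idA I A) 0 ⁻¹ᵁ ⊤) :=
  haveI := TildeD.isQCoh_tilde (R := CommRingCat.of A) M
  (xi h ((tilde.functor (CommRingCat.of A)).obj M) (isAffineOpen_top _)).comp
    (FAffSys.top (R := CommRingCat.of A) M)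

lemma eta_smul (M : ModuleCat.{u} A) (a : A) (m : M) :
    eta h M (a • m) = sh h ((Scheme.ΓSpecIso (CommRingCat.of A)).inv a) • eta h M m := by
  haveI := TildeD.isQCoh_tilde (R := CommRingCat.of A) M
  refine (congrArg (xi h _ (isAffineOpen_top _)) (FAffSys.top_smul (R := CommRingCat.of A) M a m)).trans ?_
  exact xi_smul h _ (isAffineOpen_top _) _ _

lemma realModMap_eta {M N : ModuleCat.{u} A} (u : M ⟶ N) (m : M) :
    appO (FSch.ModSys.realModMap h (FSch.complModMap (idA I A) ((tilde.functor (CommRingCat.of A)).map u)))
      (FSch.completionToX (Spec (CommRingCat.of A)) (idA I A) 0 ⁻¹ᵁ ⊤) (eta h M m) = eta h N (u m) := by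
  haveI := TildeD.isQCoh_tilde (R := CommRingCat.of A) M
  haveI := TildeD.isQCoh_tilde (R := CommRingCat.of A) N
  refine (realModMap_xi h ((tilde.functor (CommRingCat.of A)).map u) (isAffineOpen_top _) _).trans ?_
  exact congrArg (xi h _ (isAffineOpen_top _)) (FAffSys.top_natural (R := CommRingCat.of A) u m)

include hR hA in
theorem eta_bijective (M : ModuleCat.{u} A) [Module.Finite A M] : Function.Bijective (eta h M) := by
  haveI := TildeD.isQCoh_tilde (R := CommRingCat.of A) M
  haveI := isAdicComplete_sections hR hA M
  exact (show Function.Bijective (xi h ((tilde.functor (CommRingCat.of A)).obj M) (isAffineOpen_top _)) from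
    ⟨xi_injective h _ _, xi_surjective h _ _⟩).comp (FAffSys.top_bijective (R := CommRingCat.of A) M)

include hR hA in
theorem realModMap_complModMap_bijective (M N : ModuleCat.{u} A) [Module.Finite A M] [Module.Finite A N] :
    Function.Bijective (fun u : M ⟶ N =>
      FSch.ModSys.realModMap h (FSch.complModMap (idA I A) ((tilde.functor (CommRingCat.of A)).map u))) := by
  constructor
  · intro u u' huu
    ext m
    refine (eta_bijective hR hA h N).1 ?_
    rw [← realModMap_eta h u m, ← realModMap_eta h u' m]
    exact congrArg (fun θ : _ ⟶ _ =>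
      appO θ (FSch.completionToX (Spec (CommRingCat.of A)) (idA I A) 0 ⁻¹ᵁ ⊤) (eta h M m)) huu
  · intro g
    let e := Equiv.ofBijective _ (eta_bijective hR hA h N)
    let gv := fun m => appO g (FSch.completionToX (Spec (CommRingCat.of A)) (idA I A) 0 ⁻¹ᵁ ⊤) (eta h M m)
    have he : ∀ y, eta h N (e.symm y) = y := e.apply_symm_apply
    let u : M ⟶ N := ModuleCat.ofHom
      { toFun := fun m => e.symm (gv m)
        map_add' := fun a b => (eta_bijective hR hA h N).1 (by
          rw [map_add, he, he, he]
          simp only [gv, map_add])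
        map_smul' := fun a m => (eta_bijective hR hA h N).1 (by
          rw [RingHom.id_apply, eta_smul, he, he]
          simp only [gv, eta_smul, map_smul]) }
    refine ⟨u, ?_⟩
    haveI := TildeD.isQCoh_tilde (R := CommRingCat.of A) M
    haveI := TildeD.isQCoh_tilde (R := CommRingCat.of A) N
    refine hom_ext_of_xi h ((tilde.functor (CommRingCat.of A)).obj M) ((tilde.functor (CommRingCat.of A)).obj N)
      (fg_idA hR) _ _ fun z => ?_
    obtain ⟨m, rfl⟩ := (FAffSys.top_bijective (R := CommRingCat.of A) M).2 z
    exact (realModMap_eta h u m).trans (he (gv m))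

include hR hA in
theorem shortExact_completion (S : ShortComplex (ModuleCat.{u} A)) (hS : S.ShortExact)
    [Module.Finite A S.X₁] [Module.Finite A S.X₂] [Module.Finite A S.X₃] :
    ∃ w : FSch.ModSys.realModMap h (FSch.complModMap (idA I A) ((tilde.functor (CommRingCat.of A)).map S.f)) ≫
        FSch.ModSys.realModMap h (FSch.complModMap (idA I A) ((tilde.functor (CommRingCat.of A)).map S.g)) = 0,
      (ShortComplex.mk _ _ w).ShortExact := by
  haveI := TildeD.isQCoh_tilde (R := CommRingCat.of A) S.X₁
  haveI := TildeD.isQCoh_tilde (R := CommRingCat.of A) S.X₂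
  haveI := TildeD.isQCoh_tilde (R := CommRingCat.of A) S.X₃
  exact shortExact_realModMap h _ _
    (fun U hU => exact_secLin (R := CommRingCat.of A) S.f S.g
      ((ShortComplex.ShortExact.moduleCat_exact_iff_function_exact S).1 hS.exact)
      hS.moduleCat_surjective_g hU)
    (AR_sections hR hA S.f hS.moduleCat_injective_f)

end Groth.Agent.FComplTF
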