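import Groth.Agent.FComplLib.Comparison
import Groth.Agent.FComplTF.CohSys
import Groth.Agent.FComplTF.GoodAff
import Groth.Agent.FComplTF.Rows

/-!
# Coherent modules on formal spectra come from finitely presented modules
-/

set_option autoImplicit false
set_option linter.style.haveILetI false
set_option backward.isDefEq.respectTransparency false
set_option backward.isDefEq.respectTransparency.types false
set_option maxHeartbeats 800000
universe u

open CategoryTheory CategoryTheory.Limits AlgebraicGeometry TopologicalSpace Opposite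

noncomputable section

namespace Groth.Agent.FComplTF

open Groth.Agent.FCompl

section General

variable {𝔛 : FSch.Sys.{u}} {h : 𝔛.IsFormal} {𝔐 𝔑 : FSch.ModSys 𝔛}

lemma isIso_app (θ : 𝔐 ≅ 𝔑) (k : ℕ) : IsIso (θ.hom.app k) :=
  ⟨θ.inv.app k, congrArg (fun t => FSch.ModSys.Hom.app t k) θ.hom_inv_id,
    congrArg (fun t => FSch.ModSys.Hom.app t k) θ.inv_hom_id⟩

lemma GoodMod.of_iso (θ : 𝔐 ≅ 𝔑) {U : (𝔛.X 0).Opens} (hN : GoodMod h 𝔑 U) : GoodMod h 𝔐 U := by
  haveI : ∀ k, IsIso (θ.hom.app k) := isIso_app θ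
  haveI := isIso_realModMap (h := h) θ.hom
  let e := FSch.ModSys.realModMap h θ.hom
  let L : OM h 𝔐 U ≃ₗ[OR 𝔛 h U] OM h 𝔑 U := LinearEquiv.ofLinearMap (appO e U) (appO (inv e) U)
    (LinearMap.ext fun x => congr($(IsIso.inv_hom_id e).val.app (op U) x))
    (LinearMap.ext fun x => congr($(IsIso.hom_inv_id e).val.app (op U) x))
  haveI := hN.fin
  refine ⟨Module.Finite.equiv L.symm, fun x hx => ?_⟩
  have h1 : L x ∈ II 𝔛 h U • (⊤ : Submodule (OR 𝔛 h U) (OM h 𝔑 U)) := hN.ker0 _ (by
    show pm h 𝔑 U 0 (appO e U x) = 0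
    rw [pm_appO θ.hom U 0 x, hx, map_zero])
  have h2 := Submodule.mem_map_of_mem (f := L.symm.toLinearMap) h1
  rw [Submodule.map_smul'', Submodule.map_top, LinearEquiv.range] at h2
  simpa using h2

end General

variable {R : Type u} [CommRing R] {I : Ideal R} (hR : AdicRing.IsBase R I)
  {A : Type u} [CommRing A] [Algebra R A] (hA : AdicRing.TopFiniteType R I A)
  (h : (FSch.completionAlong (Spec (CommRingCat.of A)) (idA I A)).IsFormal)

variable (A) in
/-- Restriction to a basic open, from the ring itself. -/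
def toBasic (g : Γ(Spec (CommRingCat.of A), ⊤)) : A →+* Γ(Spec (CommRingCat.of A), (Spec (CommRingCat.of A)).basicOpen g) :=
  ((Spec (CommRingCat.of A)).presheaf.map (homOfLE ((Spec (CommRingCat.of A)).basicOpen_le g)).op).hom.comp
    (Scheme.ΓSpecIso (CommRingCat.of A)).inv.hom

lemma ideal_basicOpen (g : Γ(Spec (CommRingCat.of A), ⊤)) :
    (idA I A).ideal ⟨_, (isAffineOpen_top (Spec (CommRingCat.of A))).basicOpen g⟩ =
      I.map ((toBasic A g).comp (algebraMap R A)) := by
  rw [← (idA I A).map_ideal (V := ⟨⊤, isAffineOpen_top _⟩)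
    (U := ⟨_, (isAffineOpen_top (Spec (CommRingCat.of A))).basicOpen g⟩) ((Spec (CommRingCat.of A)).basicOpen_le g),
    S3873.idealSpec_top, Ideal.map_map, Ideal.map_map]
  rfl

include hR hA in
lemma finiteType_basicOpen (g : Γ(Spec (CommRingCat.of A), ⊤)) :
    ((Ideal.Quotient.mk ((idA I A).ideal ⟨_, (isAffineOpen_top (Spec (CommRingCat.of A))).basicOpen g⟩)).comp
      ((toBasic A g).comp (algebraMap R A))).FiniteType := by
  let Y := Spec (CommRingCat.of A)
  let J := (idA I A).ideal ⟨_, (isAffineOpen_top Y).basicOpen g⟩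
  have h1 : ((Y.presheaf.map (homOfLE (Y.basicOpen_le g)).op).hom).FiniteType := by
    letI : Algebra Γ(Y, ⊤) Γ(Y, Y.basicOpen g) := (Y.presheaf.map (homOfLE (Y.basicOpen_le g)).op).hom.toAlgebra
    haveI : IsLocalization.Away g Γ(Y, Y.basicOpen g) :=
      (isAffineOpen_top Y).isLocalization_of_eq_basicOpen g (homOfLE (Y.basicOpen_le g)) rfl
    have := IsLocalization.finiteType_of_monoid_fg (Submonoid.powers g) Γ(Y, Y.basicOpen g)
    exact RingHom.finiteType_algebraMap.2 this
  have h2 : ((Ideal.Quotient.mk J).comp (toBasic A g)).FiniteType :=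
    (RingHom.FiniteType.of_surjective _ Ideal.Quotient.mk_surjective).comp
      (h1.comp (RingHom.FiniteType.of_surjective _
        (ConcreteCategory.bijective_of_isIso (Scheme.ΓSpecIso (CommRingCat.of A)).inv).2))
  let f : A ⧸ I.map (algebraMap R A) →+* _ ⧸ J :=
    Ideal.Quotient.lift _ ((Ideal.Quotient.mk J).comp (toBasic A g)) fun a ha => by
      refine (RingHom.comp_apply _ _ _).trans (Ideal.Quotient.eq_zero_iff_mem.2 ?_)
      rw [show J = I.map ((toBasic A g).comp (algebraMap R A)) from ideal_basicOpen g, ← Ideal.map_map]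
      exact Ideal.mem_map_of_mem _ ha
  have hf : f.FiniteType := RingHom.FiniteType.of_comp_finiteType (f := Ideal.Quotient.mk (I.map (algebraMap R A)))
    (show (f.comp (Ideal.Quotient.mk _)).FiniteType from h2)
  have h3 := finiteType_quot hR hA
  rw [← RingHom.finiteType_algebraMap] at h3
  exact hf.comp h3

theorem finite_basicOpen (M : ModuleCat.{u} A) [Module.Finite A M] (g : Γ(Spec (CommRingCat.of A), ⊤)) :
    Module.Finite Γ(Spec (CommRingCat.of A), (Spec (CommRingCat.of A)).basicOpen g)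
      Γ((tilde.functor (CommRingCat.of A)).obj M, (Spec (CommRingCat.of A)).basicOpen g) := by
  let Y := Spec (CommRingCat.of A)
  let T := (tilde.functor (CommRingCat.of A)).obj M
  haveI : Coh.IsQCoh T := TildeD.isQCoh_tilde (R := CommRingCat.of A) M
  haveI : Module.Finite Γ(Y, ⊤) Γ(T, ⊤) := by
    obtain ⟨s, hs⟩ := Module.Finite.fg_top (R := A) (M := M)
    classical
    refine ⟨s.image (FAffSys.top (R := CommRingCat.of A) M), eq_top_iff.2 fun y hy => ?_⟩
    clear hy
    obtain ⟨m, rfl⟩ := (FAffSys.top_bijective (R := CommRingCat.of A) M).2 y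
    have hm : m ∈ Submodule.span A (s : Set M) := hs ▸ trivial
    induction hm using Submodule.span_induction with
    | mem z hz => exact Submodule.subset_span (by simpa using ⟨z, hz, rfl⟩)
    | zero => rw [map_zero]; exact zero_mem _
    | add a b _ _ ha hb => rw [map_add]; exact add_mem ha hb
    | smul a z _ hz =>
      exact (FAffSys.top_smul (R := CommRingCat.of A) M a z).symm ▸ Submodule.smul_mem _ _ hz
  let ρ : Γ(Y, ⊤) →+* Γ(Y, Y.basicOpen g) := (Y.presheaf.map (homOfLE (Y.basicOpen_le g)).op).hom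
  letI : Algebra Γ(Y, ⊤) Γ(Y, Y.basicOpen g) := ρ.toAlgebra
  letI : Module Γ(Y, ⊤) Γ(T, Y.basicOpen g) := Module.compHom _ ρ
  haveI : IsScalarTower Γ(Y, ⊤) Γ(Y, Y.basicOpen g) Γ(T, Y.basicOpen g) := .of_algebraMap_smul fun _ _ => rfl
  exact Module.Finite.equiv (isBaseChange_res T (isAffineOpen_top Y) ((isAffineOpen_top Y).basicOpen g)
    (Y.basicOpen_le g)).equiv

theorem exists_iso_of_app_eq {𝔛 : FSch.Sys.{u}} (F : ∀ n, (𝔛.X n).Modules)
    (e e' : ∀ n, (Scheme.Modules.pullback (𝔛.ι n)).obj (F (n + 1)) ≅ F n) (he : ∀ n, (e n).hom = (e' n).hom) :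
    Nonempty ((⟨F, e⟩ : FSch.ModSys 𝔛) ≅ ⟨F, e'⟩) := by
  obtain rfl : e = e' := funext fun n => Iso.ext (he n)
  exact ⟨Iso.refl _⟩

theorem cIso_eq (A : Type u) [CommRing A] (J : Ideal A) (M : ModuleCat.{u} (CommRingCat.of A)) (n : ℕ) :
    (FAffSys.cIso (FAffSys.isLvl_completionAlong A J) M n).hom =
      ((FSch.complTransIso (FSch.idealSpec A J) n).app ((tilde.functor (CommRingCat.of A)).obj M)).hom := rfl

theorem nonempty_iso_complMod (A : Type u) [CommRing A] (J : Ideal A) (M : ModuleCat.{u} (CommRingCat.of A)) :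
    Nonempty (FAffSys.sysOf (FAffSys.isLvl_completionAlong A J) M ≅
      FSch.complMod (FSch.idealSpec A J) ((tilde.functor (CommRingCat.of A)).obj M)) :=
  exists_iso_of_app_eq (fun n => (Scheme.Modules.pullback
    (FSch.completionToX (Spec (CommRingCat.of A)) (FSch.idealSpec A J) n)).obj ((tilde.functor (CommRingCat.of A)).obj M))
    _ _ (cIso_eq A J M)

include hR hA in
theorem exists_module_of_isCohF (F : FSch.ModF (FSch.completionAlong (Spec (CommRingCat.of A)) (idA I A)) h)
    (hF : FSch.IsCohF (FSch.completionAlong (Spec (CommRingCat.of A)) (idA I A)) h F) :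
    ∃ M : ModuleCat.{u} A, Module.FinitePresentation A M ∧
      Nonempty (F ≅ (FSch.complMod (idA I A) ((tilde.functor (CommRingCat.of A)).obj M)).realMod h) := by
  haveI := isAdicComplete_map hR hA A
  haveI : SheafOfModules.IsFinitePresentation
      (R := ModSite.ringSh ((FSch.completionAlong (Spec (CommRingCat.of A)) (idA I A)).Osh h)) F := hF
  obtain ⟨M, hM, ⟨θ⟩⟩ := exists_fp_module (FAffSys.isLvl_completionAlong A (I.map (algebraMap R A)))
    ((AdicRingLib.isBase_fg hR).map _) (sysOf F) (fun n => (sysOf_isCoh F hF n).1)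
    (fun n => PullFlat.isFinitePresentation_pull
      (FSch.levelMor (FSch.completionAlong (Spec (CommRingCat.of A)) (idA I A)) h n) (F := F))
    (fun p => isAdicComplete_map hR hA (Fin p → A)) (exists_ar_le hR hA)
    (fun p N x hx => mem_of_forall hR hA N x hx)
  obtain ⟨c⟩ := nonempty_iso_complMod A (I.map (algebraMap R A)) M
  haveI : Module.FinitePresentation A M := hM
  haveI := TildeD.isQCoh_tilde (R := CommRingCat.of A) M
  have hG : ∀ Z ∈ basis (Spec (CommRingCat.of A)) (idA I A), Good h Z := by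
    rintro _ ⟨g, rfl⟩
    exact good h _ hR _ (ideal_basicOpen g) (finiteType_basicOpen hR hA g)
  have hGM : ∀ Z ∈ basis (Spec (CommRingCat.of A)) (idA I A), GoodMod h (sysOf F) Z := by
    rintro _ ⟨g, rfl⟩
    haveI := finite_basicOpen M g
    exact GoodMod.of_iso (θ ≪≫ c) (goodMod h _ hR _ (ideal_basicOpen g) (finiteType_basicOpen hR hA g) _)
  haveI := eps_isIso _ basis_cover hG hF hGM
  haveI : ∀ k, IsIso ((θ ≪≫ c).hom.app k) := isIso_app (θ ≪≫ c)
  haveI := isIso_realModMap (h := h) (θ ≪≫ c).hom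
  exact ⟨M, hM, ⟨asIso (eps F) ≪≫ asIso (FSch.ModSys.realModMap h (θ ≪≫ c).hom)⟩⟩

end Groth.Agent.FComplTF
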