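import Groth.Agent.FComplTF.Sections
import Groth.Agent.FComplTF.Basis
import Groth.Agent.FComplTF.Alg

/-!
# Completed modules on affine schemes
-/

set_option autoImplicit false
set_option linter.style.haveILetI false
set_option backward.isDefEq.respectTransparency false
set_option backward.isDefEq.respectTransparency.types false
set_option maxHeartbeats 400000
universe u

open CategoryTheory CategoryTheory.Limits AlgebraicGeometry TopologicalSpace Opposite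

noncomputable section

namespace Groth.Agent.FComplTF

open Groth.Agent.FCompl

variable {Y : Scheme.{u}} {𝓘 : Y.IdealSheafData} (h : (FSch.completionAlong Y 𝓘).IsFormal)

/-- The linear map on sections of a morphism of modules. -/
def secLin {F G : Y.Modules} (φ : F ⟶ G) (U : Y.Opens) : Γ(F, U) →ₗ[Γ(Y, U)] Γ(G, U) where
  toFun := φ.app U
  map_add' := map_add _
  map_smul' a m := φ.app_smul a m

lemma realModMap_psi {F G : Y.Modules} [Coh.IsQCoh F] [Coh.IsQCoh G] (φ : F ⟶ G) {U : Y.Opens}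
    (hU : IsAffineOpen U) (x : AdicCompletion (𝓘.ideal ⟨U, hU⟩) Γ(F, U)) :
    appO (FSch.ModSys.realModMap h (FSch.complModMap 𝓘 φ)) (FSch.completionToX Y 𝓘 0 ⁻¹ᵁ U) (psi h F hU x) =
      psi h G hU (AdicCompletion.map (𝓘.ideal ⟨U, hU⟩) (secLin φ U) x) := by
  refine om_ext _ fun n => ?_
  obtain ⟨e, he⟩ := Submodule.Quotient.mk_surjective _ (x.val (n + 1))
  refine (pm_appO (FSch.complModMap 𝓘 φ) _ n (psi h F hU x)).trans ?_
  rw [pm_psi h F hU x n e he.symm, pm_psi h G hU _ n (secLin φ U e) (map_val (secLin φ U) x (n + 1) e he.symm)]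
  exact sec_natural h φ U n e

lemma realModMap_xi {F G : Y.Modules} [Coh.IsQCoh F] [Coh.IsQCoh G] (φ : F ⟶ G) {U : Y.Opens}
    (hU : IsAffineOpen U) (m : Γ(F, U)) :
    appO (FSch.ModSys.realModMap h (FSch.complModMap 𝓘 φ)) (FSch.completionToX Y 𝓘 0 ⁻¹ᵁ U) (xi h F hU m) =
      xi h G hU (φ.app U m) := by
  refine om_ext _ fun n => ?_
  refine (pm_appO (FSch.complModMap 𝓘 φ) _ n (xi h F hU m)).trans ?_
  rw [pm_xi, pm_xi]
  exact sec_natural h φ U n m

lemma rsOM_xi (F : Y.Modules) [Coh.IsQCoh F] {U W : Y.Opens} (hU : IsAffineOpen U) (hW : IsAffineOpen W)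
    (hWU : W ≤ U) (m : Γ(F, U)) :
    rsOM h (FSch.complMod 𝓘 F) ((FSch.completionToX Y 𝓘 0).preimage_mono hWU) (xi h F hU m) =
      xi h F hW (F.presheaf.map (homOfLE hWU).op m) := by
  refine om_ext _ fun n => ?_
  rw [pm_rsOM, pm_xi, pm_xi, sec_res]

variable [IsAffine Y]

variable (Y 𝓘) in
/-- The basis of the common space coming from basic opens. -/
def basis : Set ((FSch.completionAlong Y 𝓘).X 0).Opens :=
  {Z | ∃ g : Γ(Y, ⊤), Z = FSch.completionToX Y 𝓘 0 ⁻¹ᵁ Y.basicOpen g}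

lemma basis_cover (W : ((FSch.completionAlong Y 𝓘).X 0).Opens) (y : (FSch.completionAlong Y 𝓘).X 0)
    (hy : y ∈ W) : ∃ Z ∈ basis Y 𝓘, y ∈ Z ∧ Z ≤ W := by
  haveI : IsClosedImmersion (FSch.completionToX Y 𝓘 0) :=
    inferInstanceAs (IsClosedImmersion (𝓘 ^ (0 + 1)).subschemeι)
  obtain ⟨V, hV, hVW⟩ := (FSch.completionToX Y 𝓘 0).isClosedEmbedding.isInducing.isOpen_iff.1 W.isOpen
  have hyV : FSch.completionToX Y 𝓘 0 y ∈ V := by
    have : y ∈ FSch.completionToX Y 𝓘 0 ⁻¹' V := hVW ▸ hy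
    exact this
  obtain ⟨_, ⟨_, ⟨g, rfl⟩, rfl⟩, hyg, hgV⟩ :=
    (isBasis_basicOpen Y).exists_subset_of_mem_open hyV hV
  refine ⟨_, ⟨g, rfl⟩, hyg, fun z hz => ?_⟩
  have : z ∈ FSch.completionToX Y 𝓘 0 ⁻¹' V := hgV hz
  rw [hVW] at this
  exact this

/-- On a basic open a power of the function times a section comes from a global section. -/
lemma exists_global (F : Y.Modules) [Coh.IsQCoh F] (g : Γ(Y, ⊤)) (e : Γ(F, Y.basicOpen g)) :
    ∃ (k : ℕ) (m : Γ(F, ⊤)), F.presheaf.map (homOfLE (Y.basicOpen_le g)).op m =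
      (Y.presheaf.map (homOfLE (Y.basicOpen_le g)).op g) ^ k • e := by
  let ρ : Γ(Y, ⊤) →+* Γ(Y, Y.basicOpen g) := (Y.presheaf.map (homOfLE (Y.basicOpen_le g)).op).hom
  letI : Algebra Γ(Y, ⊤) Γ(Y, Y.basicOpen g) := ρ.toAlgebra
  letI : Module Γ(Y, ⊤) Γ(F, Y.basicOpen g) := Module.compHom _ ρ
  haveI : IsScalarTower Γ(Y, ⊤) Γ(Y, Y.basicOpen g) Γ(F, Y.basicOpen g) := .of_algebraMap_smul fun _ _ => rfl
  haveI : IsLocalization.Away g Γ(Y, Y.basicOpen g) :=
    (isAffineOpen_top Y).isLocalization_of_eq_basicOpen g (homOfLE (Y.basicOpen_le g)) rfl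
  have hb := isBaseChange_res F (isAffineOpen_top Y) ((isAffineOpen_top Y).basicOpen g) (Y.basicOpen_le g)
  haveI := (isLocalizedModule_iff_isBaseChange (Submonoid.powers g) Γ(Y, Y.basicOpen g) _).2 hb
  obtain ⟨⟨m, ⟨_, k, rfl⟩⟩, hmk⟩ := IsLocalizedModule.surj (Submonoid.powers g)
    ({ (F.presheaf.map (homOfLE (Y.basicOpen_le g)).op).hom with
        map_smul' := fun a m => F.val.map_smul (homOfLE (Y.basicOpen_le g)).op a m } :
      Γ(F, ⊤) →ₗ[Γ(Y, ⊤)] Γ(F, Y.basicOpen g)) e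
  refine ⟨k, m, hmk.symm.trans ?_⟩
  rw [← map_pow]
  rfl

/-- A morphism of completed modules is determined by the images of the global sections. -/
theorem hom_ext_of_xi (F G : Y.Modules) [Coh.IsQCoh F] [Coh.IsQCoh G]
    (hfg : (𝓘.ideal ⟨⊤, isAffineOpen_top Y⟩).FG)
    (a b : (FSch.complMod 𝓘 F).realMod h ⟶ (FSch.complMod 𝓘 G).realMod h)
    (hab : ∀ m, appO a _ (xi h F (isAffineOpen_top Y) m) = appO b _ (xi h F (isAffineOpen_top Y) m)) :
    a = b := by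
  refine hom_ext_of_basis (basis Y 𝓘) basis_cover a b ?_
  rintro _ ⟨g, rfl⟩ x
  have hU : IsAffineOpen (Y.basicOpen g) := (isAffineOpen_top Y).basicOpen g
  let V := FSch.completionToX Y 𝓘 0 ⁻¹ᵁ Y.basicOpen g
  let hle := (FSch.completionToX Y 𝓘 0).preimage_mono (Y.basicOpen_le g)
  let r := Y.presheaf.map (homOfLE (Y.basicOpen_le g)).op g
  have hfgU : (𝓘.ideal ⟨Y.basicOpen g, hU⟩).FG := by
    rw [← 𝓘.map_ideal (V := ⟨⊤, isAffineOpen_top Y⟩) (U := ⟨Y.basicOpen g, hU⟩) (Y.basicOpen_le g)]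
    exact hfg.map _
  show appO a V x = appO b V x
  refine om_ext _ fun n => ?_
  obtain ⟨e, he⟩ := sec_surjective h F hU n (pm h (FSch.complMod 𝓘 F) V n x)
  obtain ⟨k, m, hm⟩ := exists_global F g e
  let y := sh h r ^ k • x - rsOM h (FSch.complMod 𝓘 F) hle (xi h F (isAffineOpen_top Y) m)
  have hy : pm h (FSch.complMod 𝓘 F) V n y = 0 := by
    rw [map_sub, pm_smul, map_pow, pr_sh, rsOM_xi h F (isAffineOpen_top Y) hU (Y.basicOpen_le g), pm_xi, hm,
      ← he, ← map_pow, sec_smul, sub_self]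
  have hc : ∀ c : (FSch.complMod 𝓘 F).realMod h ⟶ (FSch.complMod 𝓘 G).realMod h,
      pm h (FSch.complMod 𝓘 G) V n (appO c V y) = 0 := by
    intro c
    have hmem := mem_span_of_pm_eq_zero h F hU hfgU n y hy
    generalize y = y' at hmem ⊢
    induction hmem using Submodule.span_induction with
    | mem z hz =>
      obtain ⟨s, hs, w, rfl⟩ := hz
      rw [map_smul, pm_smul, pr_sh]
      rw [← ker_pl h hU n, RingHom.mem_ker] at hs
      rw [hs, zero_smul]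
    | zero => rw [map_zero, map_zero]
    | add z w _ _ hz hw => rw [map_add, map_add, hz, hw, add_zero]
    | smul s z _ hz => rw [map_smul, pm_smul, hz, smul_zero]
  have hres : appO a V (rsOM h (FSch.complMod 𝓘 F) hle (xi h F (isAffineOpen_top Y) m)) =
      appO b V (rsOM h (FSch.complMod 𝓘 F) hle (xi h F (isAffineOpen_top Y) m)) :=
    (PresheafOfModules.naturality_apply a.val (homOfLE hle).op _).trans
      ((congrArg (rsOM h (FSch.complMod 𝓘 G) hle) (hab m)).trans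
        (PresheafOfModules.naturality_apply b.val (homOfLE hle).op _).symm)
  have hk : ∀ c : (FSch.complMod 𝓘 F).realMod h ⟶ (FSch.complMod 𝓘 G).realMod h,
      pl h (Y.basicOpen g) n r ^ k • pm h (FSch.complMod 𝓘 G) V n (appO c V x) =
        pm h (FSch.complMod 𝓘 G) V n (appO c V (rsOM h (FSch.complMod 𝓘 F) hle (xi h F (isAffineOpen_top Y) m))) := by
    intro c
    have := hc c
    rw [map_sub, map_sub, sub_eq_zero, map_smul, pm_smul, map_pow, pr_sh] at this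
    exact this
  have hu : IsUnit (pl h (Y.basicOpen g) n r ^ k) :=
    ((Y.toRingedSpace.isUnit_res_basicOpen g).map _).pow k
  refine hu.smul_left_cancel.1 ?_
  rw [hk a, hk b, hres]

/-- Restriction of the ideal and of sections to an affine open is a flat base change. -/
theorem AR_res {F G : Y.Modules} [Coh.IsQCoh F] [Coh.IsQCoh G] (φ : F ⟶ G) {U : Y.Opens} (hU : IsAffineOpen U)
    (hAR : AR (𝓘.ideal ⟨⊤, isAffineOpen_top Y⟩) (secLin φ ⊤)) : AR (𝓘.ideal ⟨U, hU⟩) (secLin φ U) := by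
  let ρ : Γ(Y, ⊤) →+* Γ(Y, U) := (Y.presheaf.map (homOfLE (le_top : U ≤ ⊤)).op).hom
  letI : Algebra Γ(Y, ⊤) Γ(Y, U) := ρ.toAlgebra
  letI : Module Γ(Y, ⊤) Γ(F, U) := Module.compHom _ ρ
  haveI : IsScalarTower Γ(Y, ⊤) Γ(Y, U) Γ(F, U) := .of_algebraMap_smul fun _ _ => rfl
  letI : Module Γ(Y, ⊤) Γ(G, U) := Module.compHom _ ρ
  haveI : IsScalarTower Γ(Y, ⊤) Γ(Y, U) Γ(G, U) := .of_algebraMap_smul fun _ _ => rfl
  haveI : Module.Flat Γ(Y, ⊤) Γ(Y, U) := by
    have h1 := Scheme.Hom.flat_appLE (𝟙 Y) (isAffineOpen_top Y) hU (le_top : U ≤ (𝟙 Y) ⁻¹ᵁ ⊤)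
    rw [show (𝟙 Y : Y ⟶ Y).appLE ⊤ U le_top = Y.presheaf.map (homOfLE (le_top : U ≤ ⊤)).op by
      simp [Scheme.Hom.appLE]] at h1
    exact h1
  have h2 := hAR.baseChange (isBaseChange_res F (isAffineOpen_top Y) hU le_top)
    (isBaseChange_res G (isAffineOpen_top Y) hU le_top) (secLin φ U)
    fun m => congr($(φ.mapPresheaf.naturality (homOfLE (le_top : U ≤ ⊤)).op) m)
  have e : (𝓘.ideal ⟨⊤, isAffineOpen_top Y⟩).map ρ = 𝓘.ideal ⟨U, hU⟩ :=
    𝓘.map_ideal (V := ⟨⊤, isAffineOpen_top Y⟩) (U := ⟨U, hU⟩) (le_top : U ≤ ⊤)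
  rw [show algebraMap Γ(Y, ⊤) Γ(Y, U) = ρ from rfl, e] at h2
  exact h2

/-- Completion of a short exact sequence. -/
theorem shortExact_realModMap {F₁ F₂ F₃ : Y.Modules} [Coh.IsQCoh F₁] [Coh.IsQCoh F₂] [Coh.IsQCoh F₃]
    (φ : F₁ ⟶ F₂) (ψ : F₂ ⟶ F₃)
    (hex : ∀ U : Y.Opens, IsAffineOpen U → Function.Exact (secLin φ U) (secLin ψ U) ∧ Function.Surjective (secLin ψ U))
    (hAR : AR (𝓘.ideal ⟨⊤, isAffineOpen_top Y⟩) (secLin φ ⊤)) :
    ∃ w : FSch.ModSys.realModMap h (FSch.complModMap 𝓘 φ) ≫ FSch.ModSys.realModMap h (FSch.complModMap 𝓘 ψ) = 0,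
      (ShortComplex.mk _ _ w).ShortExact := by
  have hcomp : ∀ {U : Y.Opens} (hU : IsAffineOpen U) (x : AdicCompletion (𝓘.ideal ⟨U, hU⟩) Γ(F₁, U)),
      AdicCompletion.map (𝓘.ideal ⟨U, hU⟩) (secLin ψ U) (AdicCompletion.map (𝓘.ideal ⟨U, hU⟩) (secLin φ U) x) = 0 :=
    fun {U} hU x => by
      rw [AdicCompletion.map_comp_apply, show (secLin ψ U).comp (secLin φ U) = 0 from
        (hex U hU).1.linearMap_comp_eq_zero, AdicCompletion.map_zero]
      rfl
  have w : FSch.ModSys.realModMap h (FSch.complModMap 𝓘 φ) ≫ FSch.ModSys.realModMap h (FSch.complModMap 𝓘 ψ) = 0 := by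
    refine hom_ext_of_basis (basis Y 𝓘) basis_cover _ _ ?_
    rintro _ ⟨g, rfl⟩ x
    have hU : IsAffineOpen (Y.basicOpen g) := (isAffineOpen_top Y).basicOpen g
    obtain ⟨z, rfl⟩ := (psi_bijective h F₁ hU).2 x
    refine (congrArg (appO (FSch.ModSys.realModMap h (FSch.complModMap 𝓘 ψ)) _) (realModMap_psi h φ hU z)).trans ?_
    rw [realModMap_psi h ψ hU, hcomp hU, map_zero]
    rfl
  refine ⟨w, shortExact_of_basis (basis Y 𝓘) basis_cover _ _ w ?_ ?_ ?_⟩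
  · rintro _ ⟨g, rfl⟩ x hx
    have hU : IsAffineOpen (Y.basicOpen g) := (isAffineOpen_top Y).basicOpen g
    obtain ⟨z, rfl⟩ := (psi_bijective h F₁ hU).2 x
    have h0 := (realModMap_psi h φ hU z).symm.trans hx
    rw [map_eq_zero_iff _ (psi_bijective h F₂ hU).1] at h0
    rw [map_eq_zero_of_AR _ (AR_res φ hU hAR) z h0, map_zero]
  · rintro _ ⟨g, rfl⟩ x hx
    have hU : IsAffineOpen (Y.basicOpen g) := (isAffineOpen_top Y).basicOpen g
    obtain ⟨z, rfl⟩ := (psi_bijective h F₂ hU).2 x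
    have h0 := (realModMap_psi h ψ hU z).symm.trans hx
    rw [map_eq_zero_iff _ (psi_bijective h F₃ hU).1] at h0
    obtain ⟨t, rfl⟩ := exists_of_map_eq_zero _ _ (AR_res φ hU hAR) (hex _ hU).1 (hex _ hU).2 z h0
    exact ⟨psi h F₁ hU t, realModMap_psi h φ hU t⟩
  · rintro _ ⟨g, rfl⟩ y
    have hU : IsAffineOpen (Y.basicOpen g) := (isAffineOpen_top Y).basicOpen g
    obtain ⟨z, rfl⟩ := (psi_bijective h F₃ hU).2 y
    obtain ⟨t, rfl⟩ := AdicCompletion.map_surjective (𝓘.ideal ⟨_, hU⟩) (hex _ hU).2 z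
    exact ⟨psi h F₂ hU t, realModMap_psi h ψ hU t⟩

end Groth.Agent.FComplTF
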