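import Groth.Agent.FComplTF.Rows

/-!
# Completion reflects short exactness on formal spectra
-/

set_option autoImplicit false
set_option linter.style.haveILetI false
set_option backward.isDefEq.respectTransparency false
set_option backward.isDefEq.respectTransparency.types false
set_option maxHeartbeats 400000
universe u

open CategoryTheory CategoryTheory.Limits AlgebraicGeometry TopologicalSpace Opposite

noncomputable section

namespace Groth.Agent.FComplTF

open Groth.Agent.FCompl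

variable {Y : Scheme.{u}} {𝓘 : Y.IdealSheafData} (h : (FSch.completionAlong Y 𝓘).IsFormal) [IsAffine Y]

/-- An epimorphism of completed modules comes from a map surjective modulo the ideal. -/
theorem range_sup_eq_top_of_epi {F G : Y.Modules} [Coh.IsQCoh F] [Coh.IsQCoh G] (φ : F ⟶ G)
    [Epi (FSch.ModSys.realModMap h (FSch.complModMap 𝓘 φ))] :
    LinearMap.range (secLin φ ⊤) ⊔
      𝓘.ideal ⟨⊤, isAffineOpen_top Y⟩ • (⊤ : Submodule Γ(Y, ⊤) Γ(G, ⊤)) = ⊤ := by
  let hT := isAffineOpen_top Y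
  let J := 𝓘.ideal ⟨⊤, hT⟩
  let Q : Submodule Γ(Y, ⊤) Γ(G, ⊤) := LinearMap.range (secLin φ ⊤) ⊔ J • ⊤
  show Q = ⊤
  refine eq_top_iff.2 fun x _ => by_contra fun hx => ?_
  let a : Ideal Γ(Y, ⊤) := Q.colon {x}
  have hane : a ≠ ⊤ := fun ha => hx (by
    simpa using Submodule.mem_colon_singleton.1 (show (1 : Γ(Y, ⊤)) ∈ a by rw [ha]; trivial))
  obtain ⟨P, hP, haP⟩ := Ideal.exists_le_maximal a hane
  have hJP : J ≤ P := fun j hj => haP (Submodule.mem_colon_singleton.2
    (Submodule.mem_sup_right (Submodule.smul_mem_smul hj trivial)))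
  let y : Y := hT.fromSpec ⟨P, hP.isPrime⟩
  have hy : y ∈ Set.range (FSch.completionToX Y 𝓘 0) := by
    show y ∈ Set.range (𝓘 ^ (0 + 1)).subschemeι
    rw [Scheme.IdealSheafData.range_subschemeι, SetLike.mem_coe,
      Scheme.IdealSheafData.mem_support_iff_of_mem (U := ⟨⊤, hT⟩) (show y ∈ (⊤ : Y.Opens) from trivial)]
    show y ∈ Y.zeroLocus _
    rw [Scheme.mem_zeroLocus_iff]
    intro f hf hyf
    have hmem : (⟨P, hP.isPrime⟩ : PrimeSpectrum Γ(Y, ⊤)) ∈ hT.fromSpec ⁻¹ᵁ Y.basicOpen f := hyf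
    rw [hT.fromSpec_preimage_basicOpen] at hmem
    refine hmem (hJP ?_)
    have hf' : f ∈ (𝓘 ^ (0 + 1)).ideal ⟨⊤, hT⟩ := hf
    rwa [Scheme.IdealSheafData.ideal_pow, Pi.pow_apply, zero_add, pow_one] at hf'
  obtain ⟨y', hy'⟩ := hy
  let θ := FSch.ModSys.realModMap h (FSch.complModMap 𝓘 φ)
  obtain ⟨S, hS, hS'⟩ := FPLocal.exists_sieve_preimage θ
    (V := FSch.completionToX Y 𝓘 0 ⁻¹ᵁ ⊤) (xi h G hT x)
  obtain ⟨W, gW, hgW, hyW⟩ := hS y' trivial
  obtain ⟨_, ⟨g, rfl⟩, hyg, hgle⟩ := basis_cover (𝓘 := 𝓘) W y' hyW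
  obtain ⟨t, ht⟩ := hS' (homOfLE hgle ≫ gW) (S.downward_closed hgW _)
  have hU : IsAffineOpen (Y.basicOpen g) := hT.basicOpen g
  let V := FSch.completionToX Y 𝓘 0 ⁻¹ᵁ Y.basicOpen g
  let hle := (FSch.completionToX Y 𝓘 0).preimage_mono (Y.basicOpen_le g)
  have ht' : appO θ V t = rsOM h (FSch.complMod 𝓘 G) hle (xi h G hT x) :=
    ht.trans (congrArg (fun i => FPLocal.mres _ i (xi h G hT x)) (Subsingleton.elim _ (homOfLE hle).op))
  obtain ⟨e, he⟩ := sec_surjective h F hU 0 (pm h (FSch.complMod 𝓘 F) V 0 t)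
  let ρ : Γ(Y, ⊤) →+* Γ(Y, Y.basicOpen g) := (Y.presheaf.map (homOfLE (Y.basicOpen_le g)).op).hom
  let xU : Γ(G, Y.basicOpen g) := G.presheaf.map (homOfLE (Y.basicOpen_le g)).op x
  have hdiff : φ.app _ e - xU ∈ 𝓘.ideal ⟨Y.basicOpen g, hU⟩ • (⊤ : Submodule Γ(Y, Y.basicOpen g) Γ(G, Y.basicOpen g)) := by
    have h1 : sec h G (Y.basicOpen g) 0 (φ.app _ e) = sec h G (Y.basicOpen g) 0 xU := by
      rw [← sec_natural h φ, he, ← pm_appO, ht', rsOM_xi h G hT hU (Y.basicOpen_le g), pm_xi]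
    have h2 := (sec_eq_zero_iff h G hU 0 (φ.app _ e - xU)).1 (by rw [map_sub, h1, sub_self])
    rwa [zero_add, pow_one] at h2
  have hgP : g ∉ P := by
    have : y ∈ Y.basicOpen g := hy' ▸ hyg
    have h1 : (⟨P, hP.isPrime⟩ : PrimeSpectrum Γ(Y, ⊤)) ∈ hT.fromSpec ⁻¹ᵁ Y.basicOpen g := this
    rw [hT.fromSpec_preimage_basicOpen] at h1
    exact h1
  letI : Algebra Γ(Y, ⊤) Γ(Y, Y.basicOpen g) := ρ.toAlgebra
  haveI : IsLocalization.Away g Γ(Y, Y.basicOpen g) :=
    hT.isLocalization_of_eq_basicOpen g (homOfLE (Y.basicOpen_le g)) rfl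
  letI : Module Γ(Y, ⊤) Γ(G, Y.basicOpen g) := Module.compHom _ ρ
  haveI : IsScalarTower Γ(Y, ⊤) Γ(Y, Y.basicOpen g) Γ(G, Y.basicOpen g) := .of_algebraMap_smul fun _ _ => rfl
  let l : Γ(G, ⊤) →ₗ[Γ(Y, ⊤)] Γ(G, Y.basicOpen g) :=
    { (G.presheaf.map (homOfLE (Y.basicOpen_le g)).op).hom with
      map_smul' := fun a m => G.val.map_smul (homOfLE (Y.basicOpen_le g)).op a m }
  haveI : IsLocalizedModule (Submonoid.powers g) l :=
    (isLocalizedModule_iff_isBaseChange (Submonoid.powers g) Γ(Y, Y.basicOpen g) _).2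
      (isBaseChange_res G hT hU (Y.basicOpen_le g))
  let q : Γ(G, ⊤) →ₗ[Γ(Y, ⊤)] LocalizedModule P.primeCompl (Γ(G, ⊤) ⧸ Q) :=
    (LocalizedModule.mkLinearMap P.primeCompl _).comp Q.mkQ
  have hunit : ∀ s : Submonoid.powers g, IsUnit (algebraMap Γ(Y, ⊤)
      (Module.End Γ(Y, ⊤) (LocalizedModule P.primeCompl (Γ(G, ⊤) ⧸ Q))) s.1) := by
    rintro ⟨_, k, rfl⟩
    exact IsLocalizedModule.map_units (S := P.primeCompl) (LocalizedModule.mkLinearMap P.primeCompl _)
      ⟨g ^ k, fun hk => hgP (hP.isPrime.mem_of_pow_mem k hk)⟩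
  let q' := IsLocalizedModule.lift (Submonoid.powers g) l q hunit
  have hql : ∀ z, q' (l z) = q z := fun z => IsLocalizedModule.lift_apply _ l q hunit z
  have hinj := fun s : Submonoid.powers g => (((Module.End.isUnit_iff _).1 (hunit s)).1)
  have hqQ : ∀ z ∈ Q, q z = 0 := fun z hz => by
    show LocalizedModule.mkLinearMap P.primeCompl _ (Submodule.Quotient.mk z) = 0
    rw [(Submodule.Quotient.mk_eq_zero Q).2 hz, map_zero]
  have hq'J : ∀ z ∈ 𝓘.ideal ⟨Y.basicOpen g, hU⟩ • (⊤ : Submodule Γ(Y, Y.basicOpen g) Γ(G, Y.basicOpen g)),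
      q' z = 0 := by
    intro z hz
    refine Submodule.smul_induction_on hz (fun r hr w _ => ?_) fun u v hu hv => by rw [map_add, hu, hv, add_zero]
    have hr' : r ∈ J.map (algebraMap Γ(Y, ⊤) Γ(Y, Y.basicOpen g)) := by
      have e : J.map ρ = 𝓘.ideal ⟨Y.basicOpen g, hU⟩ :=
        𝓘.map_ideal (V := ⟨⊤, hT⟩) (U := ⟨Y.basicOpen g, hU⟩) (Y.basicOpen_le g)
      rw [show algebraMap Γ(Y, ⊤) Γ(Y, Y.basicOpen g) = ρ from rfl, e]
      exact hr
    obtain ⟨⟨⟨j, hj⟩, s⟩, hs⟩ := (IsLocalization.mem_map_algebraMap_iff (Submonoid.powers g) _).1 hr'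
    obtain ⟨⟨w₀, s'⟩, hw⟩ := IsLocalizedModule.surj (Submonoid.powers g) l w
    apply hinj (s * s')
    simp only [Module.algebraMap_end_apply, Submonoid.coe_mul]
    rw [smul_zero, ← map_smul, mul_smul, ← IsScalarTower.algebraMap_smul Γ(Y, Y.basicOpen g) (s : Γ(Y, ⊤)),
      smul_comm (s' : Γ(Y, ⊤)), ← smul_assoc, smul_eq_mul, mul_comm, hs, algebraMap_smul]
    dsimp only

    rw [show (s' : Γ(Y, ⊤)) • w = s' • w from rfl, hw, ← map_smul, hql]
    exact hqQ _ (Submodule.mem_sup_right (Submodule.smul_mem_smul hj trivial))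
  have hφ : q' (φ.app _ e) = 0 := by
    obtain ⟨k, m, hm⟩ := exists_global F g e
    apply hinj ⟨g ^ k, k, rfl⟩
    simp only [Module.algebraMap_end_apply]
    rw [smul_zero, ← map_smul]
    have h1 : (g ^ k) • φ.app _ e = l (secLin φ ⊤ m) := by
      refine Eq.trans ?_ (congr($(φ.mapPresheaf.naturality (homOfLE (Y.basicOpen_le g)).op) m))
      refine Eq.trans ?_ (congrArg (φ.app _) hm).symm
      rw [φ.app_smul, ← map_pow]
      rfl
    rw [h1, hql]
    exact hqQ _ (Submodule.mem_sup_left ⟨m, rfl⟩)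
  have hq0 : q x = 0 := by
    rw [← hql, show l x = φ.app _ e - (φ.app _ e - xU) from (sub_sub_cancel _ _).symm, map_sub, hφ, hq'J _ hdiff,
      sub_zero]
  obtain ⟨⟨s, hs⟩, hsx⟩ := (IsLocalizedModule.eq_zero_iff P.primeCompl (LocalizedModule.mkLinearMap P.primeCompl _)).1 hq0
  refine hs (haP (Submodule.mem_colon_singleton.2 ?_))
  rw [← Submodule.Quotient.mk_eq_zero Q, Submodule.Quotient.mk_smul]
  exact hsx

section Base

variable {R : Type u} [CommRing R] {I : Ideal R} (hR : AdicRing.IsBase R I)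
  {A : Type u} [CommRing A] [Algebra R A] (hA : AdicRing.TopFiniteType R I A)
  (h : (FSch.completionAlong (Spec (CommRingCat.of A)) (idA I A)).IsFormal)

include hR hA in
theorem shortExact_of_completion (M₁ M₂ M₃ : ModuleCat.{u} A) [Module.Finite A M₁] [Module.Finite A M₂]
    [Module.Finite A M₃] (u : M₁ ⟶ M₂) (v : M₂ ⟶ M₃)
    (w : FSch.ModSys.realModMap h (FSch.complModMap (idA I A) ((tilde.functor (CommRingCat.of A)).map u)) ≫
      FSch.ModSys.realModMap h (FSch.complModMap (idA I A) ((tilde.functor (CommRingCat.of A)).map v)) = 0)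
    (hS : (ShortComplex.mk _ _ w).ShortExact) :
    ∃ w₀ : u ≫ v = 0, (ShortComplex.mk u v w₀).ShortExact := by
  let T := (tilde.functor (CommRingCat.of A))
  let V := FSch.completionToX (Spec (CommRingCat.of A)) (idA I A) 0 ⁻¹ᵁ ⊤
  have hb := fun (M : ModuleCat.{u} A) [Module.Finite A M] => eta_bijective hR hA h M
  have hw : u ≫ v = 0 := by
    ext m
    refine (hb M₃).1 ?_
    show eta h M₃ (v (u m)) = eta h M₃ 0
    rw [← realModMap_eta h v, ← realModMap_eta h u, map_zero]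
    exact congrArg (fun θ : _ ⟶ _ => appO θ V (eta h M₁ m)) w
  haveI := hS.mono_f
  haveI := hS.epi_g
  have hinj : Function.Injective u := fun m m' hmm => by
    refine (hb M₁).1 (FPLocal.app_injective_of_mono
      (FSch.ModSys.realModMap h (FSch.complModMap (idA I A) (T.map u))) V ?_)
    exact (realModMap_eta h u m).trans ((congrArg (eta h M₂) hmm).trans (realModMap_eta h u m').symm)
  have hex : Function.Exact u v := fun m => by
    constructor
    · intro hm
      obtain ⟨y, hy⟩ := FPLocal.exists_preimage_of_mono_exact _ hS.exact (U := V) (eta h M₂ m)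
        ((realModMap_eta h v m).trans (by rw [hm, map_zero]))
      obtain ⟨m₁, rfl⟩ := (hb M₁).2 y
      exact ⟨m₁, (hb M₂).1 ((realModMap_eta h u m₁).symm.trans hy)⟩
    · rintro ⟨m₁, rfl⟩
      exact congr($hw m₁)
  have hsurj : Function.Surjective v := by
    haveI := TildeD.isQCoh_tilde (R := CommRingCat.of A) M₂
    haveI := TildeD.isQCoh_tilde (R := CommRingCat.of A) M₃
    have h1 := range_sup_eq_top_of_epi h (T.map v)
    have h2 : LinearMap.range v.hom ⊔ (I.map (algebraMap R A)) • (⊤ : Submodule A M₃) = ⊤ := by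
      refine eq_top_iff.2 fun x _ => ?_
      obtain ⟨a, ⟨z, rfl⟩, b, hb', hab⟩ := Submodule.mem_sup.1 (h1.ge (show FAffSys.top (R := CommRingCat.of A) M₃ x ∈ _ from trivial))
      obtain ⟨z', rfl⟩ := (FAffSys.top_bijective (R := CommRingCat.of A) M₂).2 z
      obtain ⟨b', rfl⟩ := (FAffSys.top_bijective (R := CommRingCat.of A) M₃).2 b
      refine Submodule.mem_sup.2 ⟨v z', ⟨z', rfl⟩, b', ?_, (FAffSys.top_bijective (R := CommRingCat.of A) M₃).1 ?_⟩
      · rw [← pow_one (I.map (algebraMap R A)), ← top_mem_smul_iff, pow_one]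
        exact hb'
      · rw [show secLin (T.map v) ⊤ (FAffSys.top (R := CommRingCat.of A) M₂ z') =
            FAffSys.top (R := CommRingCat.of A) M₃ (v z') from FAffSys.top_natural (R := CommRingCat.of A) v z'] at hab
        exact (map_add _ _ _).trans hab
    have hJ : I.map (algebraMap R A) ≤ Ideal.jacobson ⊥ := by
      haveI := AdicRingLib.isAdicComplete_tft hR hA A
      haveI : IsAdicComplete (I.map (algebraMap R A)) A := by rwa [IsAdicComplete.map_algebraMap_iff]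
      exact IsAdicComplete.le_jacobson_bot _
    refine LinearMap.range_eq_top.1 (top_le_iff.1 ?_)
    refine Submodule.le_of_le_smul_of_le_jacobson_bot Module.Finite.fg_top hJ ?_
    exact h2.ge
  refine ⟨hw, { exact := (ShortComplex.ShortExact.moduleCat_exact_iff_function_exact (ShortComplex.mk u v hw)).2 hex
                mono_f := (ModuleCat.mono_iff_injective u).2 hinj
                epi_g := (ModuleCat.epi_iff_surjective v).2 hsurj }⟩

end Base

end Groth.Agent.FComplTF
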